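import Mathlib
import Cfsg.Prelude.Def_Sporadic
import Cfsg.Prelude.Def_Exceptional

/-!
# The Rudvalis group on 4060 points: the assembly of the statement

From a simple transitive subgroup `H` of the right order of the symmetric group of degree 4060 and
a simple subgroup `R` of `H` of the order of the Tits group fixing the point `0`.
-/

set_option autoImplicit false

namespace Cfsg.Agent.Helper2.RuM

open Cfsg

theorem simple_card_subgroupOf' {G : Type*} [Group G] (H R : Subgroup G) (h : R ≤ H) (n : ℕ)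
    (hR : IsSimpleGroup ↥R ∧ Nat.card ↥R = n) :
    IsSimpleGroup ↥(R.subgroupOf H) ∧ Nat.card ↥(R.subgroupOf H) = n := by
  have e : ↥(R.subgroupOf H) ≃* ↥R := Subgroup.subgroupOfEquivOfLe h
  have := hR.1
  exact ⟨e.isSimpleGroup_congr.2 hR.1, by rw [Nat.card_congr e.toEquiv]; exact hR.2⟩

/-- the image of a simple group under a homomorphism that does not kill some element is a simple
group of the same order. -/
theorem simple_card_range' {P G : Type*} [Group P] [Group G] (n : ℕ)
    (hP : IsSimpleGroup P ∧ Nat.card P = n) (f : P →* G) (x : P) (hf : f x ≠ 1) :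
    IsSimpleGroup ↥f.range ∧ Nat.card ↥f.range = n := by
  have := hP.1
  have hinj : Function.Injective f := by
    rw [← MonoidHom.ker_eq_bot_iff]
    rcases (inferInstance : (f.ker).Normal).eq_bot_or_eq_top with h | h
    · exact h
    · exfalso
      apply hf
      have : x ∈ f.ker := by rw [h]; exact Subgroup.mem_top _
      exact this
  have e : P ≃* ↥f.range := MonoidHom.ofInjective hinj
  exact ⟨e.symm.isSimpleGroup_congr.2 hP.1, by
    rw [← Nat.card_congr e.toEquiv]; exact hP.2⟩

theorem assemble (H R : Subgroup (Equiv.Perm (Fin 4060)))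
    (hs : IsSimpleGroup H) (hc : Nat.card H = 145926144000)
    (htr : ∀ v : Fin 4060, ∃ σ ∈ H, σ 0 = v)
    (hR : IsSimpleGroup R ∧ Nat.card R = 17971200) (hRH : R ≤ H) (hR0 : ∀ σ ∈ R, σ 0 = 0) :
    Cfsg.IsRu H ∧ MulAction.IsPretransitive H (Fin 4060) ∧
      Nat.card (MulAction.stabilizer H (0 : Fin 4060)) = 35942400 ∧
      ∃ T : Subgroup (MulAction.stabilizer H (0 : Fin 4060)), Cfsg.IsTits T := by
  have hpre : MulAction.IsPretransitive H (Fin 4060) := by
    refine ⟨fun x y => ?_⟩
    obtain ⟨σ, hσ, rfl⟩ := htr x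
    obtain ⟨τ, hτ, rfl⟩ := htr y
    refine ⟨⟨τ * σ⁻¹, H.mul_mem hτ (H.inv_mem hσ)⟩, ?_⟩
    change (τ * σ⁻¹) (σ 0) = τ 0
    simp
  refine ⟨⟨hs, hc⟩, hpre, ?_, ?_⟩
  · have h1 := Subgroup.card_mul_index (MulAction.stabilizer H (0 : Fin 4060))
    rw [MulAction.index_stabilizer, MulAction.orbit_eq_univ, Set.ncard_univ, Nat.card_fin, hc] at h1
    omega
  · have h1 := simple_card_subgroupOf' H R hRH 17971200 hR
    have hle : R.subgroupOf H ≤ MulAction.stabilizer H (0 : Fin 4060) := by
      intro x hx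
      rw [MulAction.mem_stabilizer_iff]
      exact hR0 x.val (Subgroup.mem_subgroupOf.mp hx)
    exact ⟨(R.subgroupOf H).subgroupOf (MulAction.stabilizer H (0 : Fin 4060)),
      simple_card_subgroupOf' _ _ hle 17971200 h1⟩

end Cfsg.Agent.Helper2.RuM
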