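import Mathlib
import Cfsg.Agent.Helper2.RuM.Dat

set_option autoImplicit false
set_option Elab.async false

/-! The tables of the letters are permutations. -/

noncomputable section

namespace Cfsg.Agent.Helper2.RuM

open Cfsg.Agent.Helper9.OutG Cfsg.Agent.Helper9.J3

set_option maxRecDepth 1000000 in
theorem tab_b : allB (tabChk dD) dD.K = true := by decide +kernel

theorem hD : tabOK dD := fun _ hk => allB_true tab_b hk

end Cfsg.Agent.Helper2.RuM

end
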