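import Mathlib
import Cfsg.Agent.Helper2.RuM.ChainDat
import Cfsg.Agent.Helper2.RuM.Tab

/-! The Rudvalis group on 4060 points: kernel checks of the stabiliser chain and of the
primitivity data. -/

set_option autoImplicit false
set_option Elab.async false

namespace Cfsg.Agent.Helper2.RuM

open Cfsg.Agent.Helper5.LP Cfsg.Agent.Helper9.OutG

set_option maxRecDepth 1000000 in
theorem chainRu_ok : chainOK (T dD) 10 4060 [] levelsRu = true := by decide +kernel

set_option maxRecDepth 1000000 in
theorem chainRu_prod : chainProd levelsRu = 145926144000 := by decide +kernel

set_option maxRecDepth 1000000 in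
theorem primRu_ok : primOK (T dD) 10 4060 HgensRu primRu = true := by decide +kernel

end Cfsg.Agent.Helper2.RuM
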