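import Mathlib
import Cfsg.Agent.Helper2.RuM.Tab
import Cfsg.Agent.Helper2.TwF

/-!
# The Rudvalis group on 4060 points: the generators

The five generators `a, b, c, u, y` as permutations of `Fin 4060`, the values of words, and the
check that a word is trivial.
-/

set_option autoImplicit false

noncomputable section

namespace Cfsg.Agent.Helper2.RuM

open Cfsg Cfsg.Agent.Helper5.StemP Cfsg.Agent.Helper9.OutG Cfsg.Agent.Helper9.J3

/-- the ambient symmetric group. -/
abbrev PP : Type := Equiv.Perm (Fin dD.n)

/-- the generators `a, b, c, u, y`. -/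
def g (i : ℕ) : PP := El dD hD (2 * i)

/-- the orders of the generators. -/
def mm (i : ℕ) : ℕ := bif Nat.blt i 3 then 13 else bif Nat.beq i 3 then 4 else 29

theorem ivI_even : ∀ i, i < 5 → ivI dD (2 * i) = 2 * i + 1 := by decide +kernel

theorem lval_g : ∀ c, c < 10 → lval g c = El dD hD c := by
  intro c hc
  obtain ⟨i, rfl | rfl⟩ : ∃ i, c = 2 * i ∨ c = 2 * i + 1 := ⟨c / 2, by omega⟩
  · rw [lval_even]
    rfl
  · rw [lval_odd]
    unfold g
    rw [← ivI_even i (by omega), El_iv]

theorem word_perm : ∀ l : List ℕ, (∀ c ∈ l, c < 10) → (l.map (lval g)).prod = permW dD hD l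
  | [], _ => rfl
  | c :: l, h => by
    rw [List.map_cons, List.prod_cons, permW_cons, lval_g c (h c List.mem_cons_self),
      word_perm l (fun c hc => h c (List.mem_cons_of_mem _ hc))]

/-- the word acts trivially. -/
def relChk (w : List ℕ) : Bool := allB (fun x => Nat.beq (evalT dD w x) x) 4060

theorem permW_eq_one {w : List ℕ} (h : relChk w = true) : permW dD hD w = 1 := by
  apply perm_ext dD
  intro x
  rw [permW_apply]
  exact Nat.eq_of_beq_eq_true (allB_true h x.isLt)

/-- all words of the list act trivially and have their letters below 10. -/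
def relsChk (l : List (List ℕ)) : Bool :=
  List.rec true (fun w _ ih => andB (andB (ltW w 10) (relChk w)) ih) l

theorem relsChk_cons (w : List ℕ) (l : List (List ℕ)) :
    relsChk (w :: l) = andB (andB (ltW w 10) (relChk w)) (relsChk l) := rfl

theorem relsChk_true {l : List (List ℕ)} (h : relsChk l = true) :
    ∀ w ∈ l, (∀ c ∈ w, c < 10) ∧ (w.map (lval g)).prod = 1 := by
  induction l with
  | nil => intro w hw; exact absurd hw List.not_mem_nil
  | cons v l ih =>
    rw [relsChk_cons] at h
    obtain ⟨h1, h2⟩ := andB_true h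
    obtain ⟨h3, h4⟩ := andB_true h1
    intro w hw
    rcases List.mem_cons.1 hw with rfl | hw
    · refine ⟨ltW_true h3, ?_⟩
      rw [word_perm _ (ltW_true h3)]
      exact permW_eq_one h4
    · exact ih h2 w hw

/-- the power of a generator is trivial. -/
theorem g_pow_of_chk {i n : ℕ} (hi : i < 5) (h : relChk (repW [2 * i] n) = true) :
    g i ^ n = 1 := by
  have h1 := permW_eq_one h
  rw [permW_repW, permW_single] at h1
  exact h1

end Cfsg.Agent.Helper2.RuM

end
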