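import Mathlib
import Cfsg.Agent.Helper5.TitXDat

/-! The Rudvalis group on 4060 points: the relators of the stages. -/

set_option autoImplicit false
set_option maxRecDepth 100000

namespace Cfsg.Agent.Helper2.RuM

/-- the relators of the stage of `u`: the conjugates of `a, b, c` under `u` and the square of `u`. -/
def relU : List (List ℕ) := [[6, 0, 7, 1, 5, 0, 5, 0, 3, 4, 3, 4], [6, 2, 7, 3, 5, 0, 5, 0, 3, 4, 3, 4], [6, 4, 7, 5, 1, 3, 0, 5, 0, 0, 5, 5, 0], [6, 6, 1, 1, 1, 5, 2, 5, 2, 0, 2, 0]]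

/-- relators of the stage of `y`, part 0. -/
def relR0 : List (List ℕ) := [[9, 6, 0, 4, 0, 9, 1, 5, 6, 5, 7, 7, 5, 5, 5],
  [9, 5, 0, 5, 6, 9, 5, 7, 3, 7, 0, 4, 0, 4, 1, 4],
  [8, 7, 4, 1, 4, 8, 3, 7, 1, 7, 1, 7, 5, 7, 1, 5],
  [3, 9, 2, 6, 2, 6, 9, 4, 0, 4, 3, 3, 4, 7, 1, 3, 1],
  [3, 8, 7, 4, 1, 4, 8, 7, 3, 1, 3, 5, 0, 5, 6, 5]]

/-- relators of the stage of `y`, part 1. -/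
def relR1 : List (List ℕ) := [[1, 9, 6, 0, 4, 0, 9, 6, 2, 5, 0, 0, 4, 1, 4, 2, 5],
  [1, 8, 7, 3, 7, 3, 8, 6, 3, 5, 0, 4, 3, 5, 3, 7, 7],
  [1, 8, 7, 4, 1, 4, 8, 7, 3, 0, 5, 1, 4, 3, 3, 1, 7],
  [2, 9, 6, 0, 4, 0, 9, 3, 3, 4, 2, 4, 7, 4, 7, 4, 7],
  [2, 9, 2, 6, 2, 6, 9, 4, 2, 6, 6, 4, 4, 2, 7, 5, 1]]

/-- relators of the stage of `y`, part 2. -/
def relR2 : List (List ℕ) := [[2, 9, 5, 0, 5, 6, 9, 2, 0, 5, 0, 4, 0, 6, 2, 7],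
  [2, 8, 7, 3, 7, 3, 8, 5, 7, 1, 6, 0, 0, 0, 4, 4, 7],
  [2, 8, 7, 4, 1, 4, 8, 3, 6, 3, 0, 5, 5, 1, 7, 0],
  [2, 8, 1, 5, 1, 7, 8, 6, 2, 7, 0, 0, 0, 5, 0, 2, 6],
  [0, 9, 2, 6, 2, 6, 9, 3, 4, 2, 7, 2, 5, 3, 3, 1, 4]]

/-- relators of the stage of `y`, part 3. -/
def relR3 : List (List ℕ) := [[0, 8, 7, 4, 1, 4, 8, 1, 5, 3, 3, 0, 4, 7, 5, 6, 4],
  [5, 9, 2, 6, 2, 6, 9, 5, 0, 5, 3, 1, 4, 6, 1, 1, 3],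
  [4, 9, 2, 6, 2, 6, 9, 2, 5, 7, 5, 0, 4, 4, 0, 7, 7],
  [4, 9, 5, 0, 5, 6, 9, 5, 6, 1, 7, 2, 4, 0, 4, 1],
  [4, 8, 7, 3, 7, 3, 8, 7, 4, 1, 4, 1, 6, 3, 6, 1, 1]]

/-- relators of the stage of `y`, part 4. -/
def relR4 : List (List ℕ) := [[9, 6, 0, 4, 0, 9, 6, 3, 5, 7, 5, 0, 7, 1, 1, 3, 5],
  [9, 6, 0, 4, 0, 9, 7, 3, 5, 3, 6, 0, 4, 4, 1, 6, 3],
  [8, 0, 0, 6, 6, 1, 8, 6, 2, 4, 6, 5, 5, 3, 5, 6],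
  [8, 7, 3, 6, 3, 1, 9, 0, 7, 5, 0, 0, 4, 7, 1, 7, 7],
  [8, 0, 4, 0, 2, 7, 8, 4, 0, 6, 5, 2, 4, 0, 5, 2, 2]]

/-- relators of the stage of `y`, part 5. -/
def relR5 : List (List ℕ) := [[8, 0, 2, 7, 2, 6, 9, 5, 0, 5, 0, 0, 2, 0, 3, 5, 3],
  [8, 7, 4, 1, 4, 8, 0, 2, 5, 2, 6, 0, 4, 7, 3, 3, 4],
  [9, 4, 8, 7, 2, 7, 9, 4, 3, 3, 5, 3, 7, 7, 3, 4],
  [9, 2, 8, 1, 9, 1, 9, 2, 1, 5, 0, 0, 0, 7, 7],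
  [1, 3, 8, 7, 3, 7, 3, 8, 4, 1, 3, 5, 1, 3, 6, 0, 2, 5]]

/-- relators of the stage of `y`, part 6. -/
def relR6 : List (List ℕ) := [[1, 1, 9, 2, 6, 2, 6, 9, 3, 6, 2, 4, 0, 0, 5, 3, 1, 1],
  [1, 1, 8, 7, 4, 1, 4, 8, 5, 3, 3, 0, 0, 4, 3, 5, 2, 2],
  [3, 1, 9, 5, 0, 5, 6, 9, 2, 0, 2, 1, 1, 5, 6, 1, 7],
  [3, 1, 8, 7, 4, 1, 4, 8, 6, 6, 5, 0, 4, 2, 4, 3, 5],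
  [3, 3, 9, 6, 0, 4, 0, 9, 4, 1, 4, 6, 1, 5, 1, 6, 1, 6]]

/-- relators of the stage of `y`, part 7. -/
def relR7 : List (List ℕ) := [[3, 3, 9, 2, 6, 2, 6, 9, 5, 3, 1, 6, 6, 2, 4, 1, 7, 5],
  [3, 3, 8, 7, 4, 1, 4, 8, 3, 1, 6, 3, 7, 7, 5, 6],
  [3, 5, 9, 5, 0, 5, 6, 9, 4, 1, 1, 1, 2, 4, 3, 5, 3],
  [3, 4, 8, 7, 4, 1, 4, 8, 6, 4, 2, 0, 4, 6, 4, 0, 5],
  [3, 6, 8, 7, 3, 7, 3, 8, 6, 3, 3, 3, 1, 7, 7, 3, 1, 7]]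

/-- relators of the stage of `y`, part 8. -/
def relR8 : List (List ℕ) := [[3, 6, 8, 7, 4, 1, 4, 8, 0, 0, 2, 4, 4, 0, 5, 5, 7, 1],
  [3, 9, 0, 6, 6, 1, 1, 9, 2, 4, 1, 3, 3, 5, 3, 6, 4],
  [3, 9, 2, 6, 2, 6, 9, 5, 3, 3, 6, 6, 0, 4, 1, 7, 5, 3],
  [3, 9, 5, 0, 5, 6, 9, 3, 1, 6, 0, 4, 0, 3, 4, 0, 0, 7],
  [3, 9, 6, 0, 4, 0, 9, 0, 7, 4, 7, 4, 4, 1, 3, 5, 6, 0]]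

/-- relators of the stage of `y`, part 9. -/
def relR9 : List (List ℕ) := [[3, 8, 1, 5, 1, 7, 8, 0, 5, 6, 6, 3, 1, 3, 5, 5, 3, 6],
  [3, 8, 0, 2, 7, 2, 6, 9, 7, 2, 0, 0, 3, 1, 6, 2, 5],
  [3, 8, 3, 1, 4, 6, 1, 8, 3, 1, 4, 1, 2, 6],
  [3, 8, 7, 3, 6, 3, 1, 9, 4, 4, 1, 6, 6, 5, 7, 4, 6],
  [7, 3, 8, 7, 4, 1, 4, 8, 0, 4, 6, 0, 7, 5, 2, 7, 4]]

/-- relators of the stage of `y`, part 10. -/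
def relR10 : List (List ℕ) := [[7, 1, 9, 5, 0, 5, 6, 9, 2, 2, 6, 6, 0, 0, 2, 0, 6, 4],
  [6, 3, 8, 7, 3, 7, 3, 8, 4, 7, 1, 4, 2, 4, 0, 7, 5, 1],
  [1, 2, 9, 6, 0, 4, 0, 9, 1, 7, 0, 5, 1, 1, 5, 3, 5, 1],
  [1, 5, 9, 2, 6, 2, 6, 9, 0, 7, 0, 0, 0, 6, 5, 5, 3, 6],
  [1, 5, 8, 1, 5, 1, 7, 8, 6, 2, 4, 0, 3, 6, 4, 4, 7]]

/-- relators of the stage of `y`, part 11. -/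
def relR11 : List (List ℕ) := [[1, 4, 9, 2, 6, 2, 6, 9, 6, 3, 3, 5, 1, 4, 6, 3, 6, 3],
  [1, 6, 8, 7, 4, 1, 4, 8, 0, 4, 3, 4, 0, 5, 3, 6, 4],
  [1, 7, 8, 7, 4, 1, 4, 8, 0, 4, 7, 5, 2, 4, 1, 7, 7],
  [1, 9, 0, 6, 6, 1, 1, 9, 7, 4, 4, 4, 7, 7, 4, 7, 7],
  [1, 9, 5, 0, 5, 6, 9, 0, 3, 6, 2, 0, 5, 3, 4, 6, 5]]

/-- relators of the stage of `y`, part 12. -/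
def relR12 : List (List ℕ) := [[1, 9, 5, 0, 5, 6, 9, 3, 6, 5, 7, 1, 3, 3, 1, 1, 1],
  [1, 9, 5, 0, 5, 6, 9, 4, 7, 5, 3, 4, 6, 2, 4, 1, 3],
  [1, 9, 7, 4, 1, 7, 0, 9, 2, 2, 0, 4, 0, 6, 4, 2],
  [1, 9, 6, 0, 4, 0, 9, 1, 5, 6, 5, 6, 6, 5, 5, 5, 0],
  [1, 8, 0, 0, 6, 6, 1, 8, 6, 3, 0, 2, 2, 0, 2, 2, 2, 5]]

/-- relators of the stage of `y`, part 13. -/
def relR13 : List (List ℕ) := [[1, 8, 3, 6, 4, 2, 2, 8, 3, 1, 1, 5, 3, 6, 0, 0, 0, 0],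
  [1, 8, 7, 3, 7, 3, 8, 2, 5, 7, 2, 4, 4, 4, 3, 7, 4, 7],
  [1, 8, 7, 3, 7, 3, 8, 4, 0, 4, 2, 0, 0, 6, 3, 6, 4, 7],
  [1, 8, 7, 3, 7, 3, 8, 5, 1, 5, 1, 6, 0, 3, 3, 4, 2, 4],
  [1, 8, 7, 3, 6, 3, 1, 9, 4, 4, 7, 1, 5, 7, 5, 2, 4]]

/-- relators of the stage of `y`, part 14. -/
def relR14 : List (List ℕ) := [[0, 2, 9, 5, 0, 5, 6, 9, 3, 1, 6, 0, 4, 4, 7, 3],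
  [2, 2, 9, 5, 0, 5, 6, 9, 3, 1, 6, 0, 4, 4, 7, 1],
  [2, 7, 8, 7, 4, 1, 4, 8, 0, 4, 3, 4, 7, 4, 3, 5, 5],
  [2, 6, 9, 6, 0, 4, 0, 9, 6, 1, 4, 6, 4, 6, 4, 4, 6],
  [2, 9, 0, 6, 6, 1, 1, 9, 4, 0, 5, 0, 2, 4, 0, 0, 6]]

/-- relators of the stage of `y`, part 15. -/
def relR15 : List (List ℕ) := [[2, 9, 3, 5, 2, 0, 7, 8, 4, 7, 0, 2, 5, 3, 3, 7, 5],
  [2, 9, 2, 6, 2, 6, 9, 3, 6, 2, 5, 5, 1, 4, 7, 4, 4, 7],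
  [2, 9, 5, 0, 5, 6, 9, 1, 6, 5, 2, 1, 1, 4, 2, 6, 4],
  [2, 9, 5, 0, 5, 6, 9, 6, 6, 3, 6, 5, 1, 4, 0, 6, 4],
  [2, 9, 6, 0, 4, 0, 9, 0, 4, 0, 5, 2, 1, 7, 3, 3, 7, 7]]

/-- relators of the stage of `y`, part 16. -/
def relR16 : List (List ℕ) := [[2, 9, 6, 0, 4, 0, 9, 4, 1, 4, 1, 1, 3, 5, 3, 7, 3, 4],
  [2, 8, 3, 4, 3, 3, 3, 9, 3, 3, 3, 7, 0, 0, 4, 6, 0, 5],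
  [0, 3, 9, 5, 0, 5, 6, 9, 1, 5, 1, 6, 2, 5, 3, 7, 0, 2],
  [0, 4, 9, 2, 6, 2, 6, 9, 4, 0, 6, 4, 0, 4, 7, 3, 5, 6],
  [0, 4, 8, 7, 3, 7, 3, 8, 2, 4, 0, 4, 6, 3, 4, 0, 5, 2]]

/-- relators of the stage of `y`, part 17. -/
def relR17 : List (List ℕ) := [[0, 6, 9, 6, 0, 4, 0, 9, 4, 1, 4, 6, 1, 1, 1, 3, 5, 7],
  [0, 6, 9, 2, 6, 2, 6, 9, 4, 1, 5, 7, 0, 4, 4, 3, 1, 6],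
  [0, 6, 8, 1, 5, 1, 7, 8, 4, 7, 2, 5, 5, 5, 7, 0, 4],
  [0, 7, 9, 5, 0, 5, 6, 9, 3, 5, 3, 6, 0, 3, 6, 4, 6, 4],
  [0, 7, 8, 7, 4, 1, 4, 8, 1, 5, 1, 7, 5, 0, 7, 4, 6]]

/-- relators of the stage of `y`, part 18. -/
def relR18 : List (List ℕ) := [[0, 9, 3, 5, 2, 0, 7, 8, 4, 7, 2, 5, 5, 6, 2, 4, 0],
  [0, 9, 5, 0, 5, 6, 9, 4, 7, 4, 6, 0, 0, 5, 5, 3, 1, 5],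
  [0, 9, 4, 2, 2, 1, 6, 9, 5, 6, 1, 7, 3, 3, 5, 5, 7, 5],
  [0, 8, 7, 3, 7, 3, 8, 5, 5, 1, 5, 6, 1, 1, 4, 6, 5, 7],
  [0, 8, 7, 4, 1, 4, 8, 5, 0, 5, 1, 5, 1, 2, 5, 6, 1, 7]]

/-- relators of the stage of `y`, part 19. -/
def relR19 : List (List ℕ) := [[0, 8, 7, 4, 1, 4, 8, 6, 1, 5, 1, 6, 1, 6, 4, 1, 6, 2],
  [5, 3, 9, 5, 0, 5, 6, 9, 4, 1, 3, 1, 3, 5, 6, 5, 7, 3],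
  [5, 2, 8, 1, 5, 1, 7, 8, 3, 0, 4, 2, 0, 2, 6, 2, 5, 1],
  [5, 0, 8, 7, 4, 1, 4, 8, 6, 3, 5, 1, 1, 5, 2, 5, 7, 2],
  [5, 5, 8, 7, 3, 7, 3, 8, 1, 5, 3, 5, 2, 5, 3, 5, 0, 6]]

/-- relators of the stage of `y`, part 20. -/
def relR20 : List (List ℕ) := [[5, 7, 9, 6, 0, 4, 0, 9, 2, 5, 0, 4, 6, 0, 4, 7, 2, 2],
  [5, 9, 5, 0, 5, 6, 9, 7, 1, 5, 5, 3, 6, 3, 5, 5, 0, 5],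
  [5, 8, 7, 3, 7, 3, 8, 4, 0, 2, 0, 4, 1, 6, 1, 7, 4, 7],
  [5, 8, 7, 3, 7, 3, 8, 5, 3, 5, 7, 5, 1, 4, 1, 6, 0, 6],
  [5, 8, 7, 3, 7, 3, 8, 7, 2, 5, 3, 3, 1, 1, 1, 4, 3, 3]]

/-- relators of the stage of `y`, part 21. -/
def relR21 : List (List ℕ) := [[5, 8, 7, 2, 1, 3, 5, 8, 6, 4, 0, 2, 0, 6, 3, 6, 5, 5],
  [5, 8, 0, 4, 0, 2, 7, 8, 6, 3, 5, 3, 1, 1, 5, 0, 0, 3],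
  [4, 8, 7, 4, 1, 4, 8, 0, 2, 0, 5, 3, 7, 4, 6, 5, 3],
  [7, 2, 8, 1, 5, 1, 7, 8, 4, 2, 0, 4, 7, 0, 5, 6, 2],
  [7, 0, 9, 6, 0, 4, 0, 9, 0, 4, 0, 5, 0, 3, 7, 3, 1, 7]]

/-- relators of the stage of `y`, part 22. -/
def relR22 : List (List ℕ) := [[7, 0, 8, 7, 3, 7, 3, 8, 5, 5, 1, 5, 0, 6, 3, 1, 6, 1],
  [7, 0, 8, 7, 4, 1, 4, 8, 1, 5, 7, 0, 3, 1, 5, 0, 4],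
  [7, 5, 9, 2, 6, 2, 6, 9, 0, 6, 4, 2, 0, 3, 6, 2, 2, 5],
  [7, 4, 9, 2, 6, 2, 6, 9, 3, 6, 5, 5, 1, 1, 3, 7, 2],
  [6, 4, 9, 5, 0, 5, 6, 9, 0, 6, 0, 4, 4, 7, 5, 2, 6]]

/-- relators of the stage of `y`, part 23. -/
def relR23 : List (List ℕ) := [[6, 9, 0, 6, 6, 1, 1, 9, 4, 6, 1, 1, 5, 1, 6, 0, 2],
  [6, 9, 5, 0, 5, 6, 9, 3, 1, 6, 0, 2, 0, 7, 7, 1, 4, 2],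
  [6, 9, 5, 0, 5, 6, 9, 5, 1, 1, 7, 5, 0, 6, 5, 3, 5, 6],
  [6, 9, 5, 0, 5, 6, 9, 7, 3, 6, 5, 1, 4, 0, 4, 0, 6],
  [6, 8, 1, 5, 1, 7, 8, 1, 6, 3, 4, 1, 3, 1, 3, 7, 5, 1]]

/-- relators of the stage of `y`, part 24. -/
def relR24 : List (List ℕ) := [[6, 8, 0, 2, 7, 2, 6, 9, 7, 5, 2, 0, 2, 4, 3, 5, 2],
  [6, 8, 7, 4, 1, 4, 8, 1, 5, 1, 1, 4, 6, 4, 6, 0, 6],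
  [6, 8, 7, 3, 6, 3, 1, 9, 6, 2, 5, 0, 5, 3, 7, 7, 5],
  [7, 7, 9, 6, 0, 4, 0, 9, 6, 4, 2, 0, 2, 0, 3, 4, 3, 4],
  [7, 9, 3, 5, 2, 0, 7, 8, 5, 7, 2, 1, 5, 5, 1, 7, 7, 1]]

/-- relators of the stage of `y`, part 25. -/
def relR25 : List (List ℕ) := [[7, 9, 2, 6, 2, 6, 9, 4, 1, 5, 7, 0, 4, 4, 3, 3, 6, 2],
  [9, 1, 1, 4, 4, 2, 4, 8, 0, 0, 6, 2, 0, 0, 7, 7, 5, 7],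
  [9, 1, 1, 6, 5, 1, 5, 9, 5, 0, 5, 2, 0, 0, 7, 4, 1],
  [9, 1, 1, 2, 5, 9, 9, 9, 6, 6, 5, 2, 0, 2, 4, 3, 3, 4],
  [9, 6, 3, 7, 3, 1, 4, 9, 3, 1, 3, 0, 5, 3, 3, 5, 0, 7]]

/-- relators of the stage of `y`, part 26. -/
def relR26 : List (List ℕ) := [[9, 1, 6, 1, 7, 5, 0, 9, 1, 3, 6, 1, 1, 1, 1, 1],
  [9, 1, 6, 1, 4, 3, 3, 9, 3, 5, 2, 0, 3, 5, 1, 6, 4],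
  [9, 6, 3, 5, 1, 6, 4, 9, 1, 4, 1, 4, 2, 4, 7, 2, 4, 3],
  [9, 1, 4, 6, 5, 5, 5, 9, 5, 2, 7, 2, 6, 4, 4, 7],
  [9, 0, 6, 4, 1, 6, 6, 9, 7, 5, 7, 1, 4, 4, 3]]

/-- relators of the stage of `y`, part 27. -/
def relR27 : List (List ℕ) := [[9, 1, 2, 4, 6, 5, 3, 8, 5, 5, 0, 0, 3, 4, 7, 4, 6],
  [9, 1, 2, 7, 2, 0, 4, 8, 6, 5, 7, 5, 1, 3, 5, 5, 0],
  [9, 1, 2, 6, 2, 7, 0, 9, 5, 3, 0, 5, 0, 4, 6, 2, 4, 0],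
  [9, 3, 1, 3, 7, 3, 0, 9, 6, 5, 0, 5, 1, 3, 1, 1, 1],
  [9, 3, 3, 4, 0, 6, 8, 0, 3, 3, 5, 7, 1, 1, 2, 6, 4, 0]]

/-- relators of the stage of `y`, part 28. -/
def relR28 : List (List ℕ) := [[9, 3, 3, 5, 7, 2, 9, 4, 2, 7, 1, 1, 6, 3, 1, 6, 2],
  [9, 3, 3, 4, 0, 6, 8, 6, 0, 6, 6, 0, 4, 4, 0, 3, 6, 4],
  [9, 3, 3, 1, 1, 6, 6, 8, 7, 5, 6, 0, 2, 5, 2, 4, 2],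
  [9, 3, 3, 7, 5, 2, 0, 9, 3, 4, 2, 0, 3, 6, 5, 3, 1],
  [9, 3, 5, 2, 0, 7, 8, 5, 7, 2, 1, 5, 5, 1, 3, 7, 0, 3]]

/-- relators of the stage of `y`, part 29. -/
def relR29 : List (List ℕ) := [[9, 3, 5, 2, 0, 7, 8, 7, 1, 7, 0, 4, 2, 0, 3, 4, 1, 5],
  [9, 3, 4, 1, 5, 3, 1, 9, 1, 4, 1, 7, 2, 4, 4, 7, 1],
  [9, 3, 7, 1, 4, 7, 3, 8, 5, 6, 2, 4, 1, 3, 1, 4, 7, 1],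
  [9, 3, 7, 1, 6, 5, 3, 9, 3, 6, 4, 6, 1, 5, 3, 7, 0, 5],
  [9, 3, 6, 2, 4, 7, 3, 9, 1, 4, 4, 0, 0, 7, 7, 1, 4, 4]]

/-- relators of the stage of `y`, part 30. -/
def relR30 : List (List ℕ) := [[9, 7, 5, 2, 1, 4, 6, 8, 1, 5, 5, 1, 3, 5, 2, 0, 4],
  [9, 0, 3, 6, 3, 1, 6, 8, 5, 2, 5, 2, 0, 6, 4, 1, 7, 0],
  [9, 0, 3, 7, 3, 3, 7, 8, 1, 1, 6, 1, 3, 3, 1, 3, 7],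
  [9, 0, 7, 7, 1, 1, 9, 7, 4, 2, 2, 4, 7, 5, 5, 7],
  [9, 5, 2, 7, 0, 6, 4, 9, 2, 5, 6, 0, 4, 0, 5]]

/-- relators of the stage of `y`, part 31. -/
def relR31 : List (List ℕ) := [[9, 7, 3, 3, 6, 6, 5, 8, 7, 3, 5, 1, 2, 5, 1, 1, 7],
  [9, 7, 1, 5, 5, 7, 2, 9, 4, 1, 3, 3, 1, 3, 5, 7, 0],
  [9, 1, 4, 1, 5, 6, 3, 8, 0, 2, 6, 4, 1, 4, 2, 0, 4, 4],
  [9, 1, 4, 3, 6, 3, 5, 8, 6, 0, 2, 2, 4, 2, 0, 2, 4],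
  [9, 1, 7, 5, 2, 8, 8, 8, 3, 4, 4, 4, 1, 3, 5, 1, 5, 7]]

/-- relators of the stage of `y`, part 32. -/
def relR32 : List (List ℕ) := [[9, 1, 7, 4, 1, 4, 1, 9, 7, 0, 5, 5, 1, 7, 0, 0, 4, 2],
  [9, 1, 6, 0, 4, 0, 0, 9, 7, 1, 4, 2, 0, 2, 4, 0, 6, 3],
  [9, 0, 0, 4, 2, 2, 1, 9, 7, 2, 5, 7, 4, 4, 0, 0, 4],
  [9, 0, 0, 2, 1, 1, 6, 9, 5, 5, 7, 2, 0, 2, 0, 3, 5],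
  [9, 0, 2, 4, 4, 4, 1, 9, 0, 2, 0, 4, 1, 5, 2, 0, 2, 6]]

/-- relators of the stage of `y`, part 33. -/
def relR33 : List (List ℕ) := [[9, 0, 6, 0, 7, 2, 2, 9, 6, 0, 6, 2, 0, 4, 0, 7, 5],
  [9, 7, 0, 5, 0, 2, 7, 9, 6, 4, 3, 3, 3, 7, 0, 2, 6],
  [9, 0, 3, 4, 4, 2, 4, 9, 0, 5, 7, 5, 2, 6, 5, 5, 1, 3],
  [9, 2, 2, 4, 3, 6, 0, 9, 2, 0, 2, 0, 7, 3, 4, 1],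
  [9, 2, 2, 2, 4, 3, 5, 9, 0, 2, 0, 2, 4, 1, 5, 6, 3]]

/-- relators of the stage of `y`, part 34. -/
def relR34 : List (List ℕ) := [[9, 2, 5, 5, 0, 6, 6, 8, 2, 2, 6, 6, 2, 4, 7, 4, 6, 3],
  [9, 2, 5, 5, 5, 3, 3, 9, 5, 1, 1, 6, 3, 6, 1, 3, 6],
  [9, 2, 4, 2, 6, 2, 5, 9, 5, 3, 5, 7, 4, 4, 4, 4, 1, 6],
  [9, 2, 7, 0, 2, 5, 1, 9, 2, 7, 0, 2, 5, 1],
  [9, 2, 7, 2, 0, 7, 5, 9, 3, 4, 2, 4, 4, 6, 4, 0, 0, 7]]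

/-- relators of the stage of `y`, part 35. -/
def relR35 : List (List ℕ) := [[9, 2, 6, 2, 6, 9, 6, 0, 4, 1, 6, 4, 3, 7, 2, 4, 2, 4],
  [9, 2, 6, 2, 6, 9, 7, 0, 5, 2, 1, 7, 0, 4, 7, 4, 0, 4],
  [9, 2, 6, 2, 6, 9, 3, 1, 6, 5, 5, 5, 0, 3, 4, 1, 1, 4],
  [9, 2, 6, 2, 6, 9, 4, 6, 3, 7, 2, 5, 0, 4, 6, 4, 2, 4],
  [9, 4, 1, 4, 0, 0, 2, 9, 6, 3, 4, 7, 1, 5, 5, 1, 2, 7]]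

/-- relators of the stage of `y`, part 36. -/
def relR36 : List (List ℕ) := [[9, 4, 3, 3, 4, 6, 2, 9, 0, 4, 4, 7, 1, 1, 4, 7, 3, 6],
  [9, 0, 4, 1, 4, 6, 6, 8, 4, 2, 5, 7, 4, 7, 2, 2, 2, 6],
  [9, 5, 2, 6, 0, 7, 4, 9, 0, 5, 6, 2, 2, 0, 2, 5, 5, 2],
  [9, 0, 7, 2, 0, 4, 4, 8, 1, 7, 5, 1, 3, 1, 6, 1, 3, 3],
  [9, 5, 3, 6, 3, 0, 2, 9, 4, 0, 2, 0, 0, 0, 3, 1, 6, 4]]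

/-- relators of the stage of `y`, part 37. -/
def relR37 : List (List ℕ) := [[9, 5, 0, 5, 6, 9, 5, 0, 3, 6, 3, 7, 0, 4, 2, 4, 1, 4],
  [9, 5, 0, 5, 6, 9, 1, 1, 6, 0, 2, 6, 0, 3, 6, 4, 0, 6],
  [9, 5, 0, 5, 6, 9, 5, 1, 2, 7, 1, 7, 0, 4, 0, 4, 1, 4],
  [9, 5, 0, 5, 6, 9, 4, 2, 2, 6, 1, 5, 0, 2, 2, 0, 2, 7],
  [9, 5, 0, 5, 6, 9, 4, 4, 3, 0, 4, 3, 0, 6, 2, 7, 0, 2]]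

/-- relators of the stage of `y`, part 38. -/
def relR38 : List (List ℕ) := [[9, 5, 0, 5, 6, 9, 2, 5, 2, 6, 1, 5, 0, 7, 4, 3, 5, 1],
  [9, 5, 0, 5, 6, 9, 3, 5, 7, 0, 6, 0, 0, 5, 7, 1, 7, 3],
  [8, 1, 3, 5, 7, 4, 1, 9, 3, 5, 3, 0, 2, 5, 0, 6],
  [8, 1, 3, 6, 1, 5, 5, 9, 0, 0, 4, 6, 2, 6, 0, 2],
  [8, 6, 3, 5, 1, 6, 2, 9, 4, 0, 0, 4, 0, 0, 4, 7, 4, 6]]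

/-- relators of the stage of `y`, part 39. -/
def relR39 : List (List ℕ) := [[8, 1, 5, 0, 7, 5, 2, 9, 2, 2, 5, 7, 0, 6, 1, 3, 5, 5],
  [8, 0, 7, 1, 1, 1, 5, 9, 1, 7, 1, 4, 0, 4, 4, 4, 1, 6],
  [8, 1, 2, 5, 1, 5, 5, 9, 5, 2, 1, 7, 1, 1, 1, 6, 0, 5],
  [8, 3, 3, 3, 6, 0, 4, 8, 0, 5, 2, 5, 7, 4, 0, 4, 1],
  [8, 3, 5, 2, 4, 1, 5, 8, 0, 5, 6, 4, 3, 7, 5, 5, 3, 6]]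

/-- relators of the stage of `y`, part 40. -/
def relR40 : List (List ℕ) := [[8, 3, 5, 0, 7, 0, 6, 8, 7, 5, 3, 0, 0, 7, 4, 4, 7, 1],
  [8, 3, 5, 7, 1, 6, 3, 9, 2, 5, 1, 1, 7, 0, 2, 5, 1, 6],
  [8, 3, 4, 7, 1, 3, 6, 8, 7, 1, 6, 1, 1, 3, 7, 5, 5, 5],
  [8, 3, 4, 4, 4, 7, 2, 9, 5, 1, 7, 2, 6, 0, 4, 4, 2, 0],
  [8, 3, 7, 2, 4, 3, 6, 9, 7, 1, 3, 7, 0, 2, 2]]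

/-- relators of the stage of `y`, part 41. -/
def relR41 : List (List ℕ) := [[8, 7, 3, 7, 3, 8, 4, 1, 1, 5, 7, 4, 2, 0, 6, 4, 2, 6],
  [8, 7, 3, 6, 3, 1, 9, 2, 4, 3, 7, 0, 0, 3, 1, 3, 6],
  [8, 7, 3, 7, 3, 8, 5, 3, 5, 6, 5, 5, 0, 6, 1, 4, 1, 7],
  [8, 7, 3, 6, 3, 1, 9, 4, 3, 4, 4, 0, 3, 3, 7, 3, 6],
  [8, 7, 3, 7, 3, 8, 6, 5, 0, 7, 4, 2, 2, 2, 0, 5, 7, 1]]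

/-- relators of the stage of `y`, part 42. -/
def relR42 : List (List ℕ) := [[8, 7, 3, 7, 3, 8, 4, 6, 4, 4, 2, 4, 0, 7, 0, 7, 2, 4],
  [8, 7, 3, 1, 4, 3, 7, 8, 2, 0, 2, 0, 5, 7, 2, 0, 2],
  [8, 7, 0, 3, 3, 5, 8, 6, 2, 7, 2, 5, 0, 3, 7, 1, 1, 3],
  [8, 1, 6, 4, 7, 5, 7, 8, 4, 2, 1, 3, 1, 3, 6, 4, 4],
  [8, 7, 1, 6, 2, 2, 2, 8, 2, 7, 5, 2, 0, 6, 4, 4, 7, 1]]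

/-- relators of the stage of `y`, part 43. -/
def relR43 : List (List ℕ) := [[8, 6, 3, 1, 4, 1, 6, 8, 3, 3, 6, 0, 2, 7, 2, 5, 7],
  [8, 1, 6, 2, 5, 2, 7, 9, 2, 1, 1, 4, 1, 4, 2, 4, 1],
  [8, 6, 1, 3, 3, 7, 1, 8, 7, 1, 5, 7, 0, 7, 4, 2, 4, 3],
  [8, 1, 4, 2, 1, 7, 4, 9, 1, 4, 6, 1, 1, 6, 4, 0, 4],
  [8, 1, 7, 2, 5, 3, 3, 8, 0, 5, 0, 6, 3, 3, 1, 3]]

/-- relators of the stage of `y`, part 44. -/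
def relR44 : List (List ℕ) := [[8, 0, 0, 2, 2, 4, 3, 9, 1, 5, 3, 7, 0, 5, 5, 3, 7],
  [8, 0, 2, 7, 2, 6, 9, 0, 4, 0, 7, 0, 6, 4, 7, 0, 6],
  [8, 0, 2, 7, 2, 6, 9, 7, 2, 6, 2, 0, 3, 5, 5, 2, 5],
  [8, 2, 0, 7, 0, 6, 4, 8, 1, 6, 5, 0, 7, 4, 3, 7, 0],
  [8, 0, 4, 4, 7, 0, 5, 8, 5, 2, 2, 0, 0, 0, 2, 5, 2, 7]]

/-- relators of the stage of `y`, part 45. -/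
def relR45 : List (List ℕ) := [[8, 0, 7, 2, 4, 7, 4, 9, 6, 3, 0, 4, 0, 7, 4, 1, 5, 5],
  [8, 5, 3, 4, 7, 0, 7, 9, 3, 4, 4, 3, 1, 1, 2, 7, 5, 7],
  [8, 5, 0, 2, 5, 5, 6, 9, 7, 3, 5, 0, 0, 0, 3, 4, 1, 4],
  [8, 5, 5, 6, 4, 1, 5, 9, 0, 4, 4, 3, 0, 4, 6, 5, 0, 7],
  [8, 7, 2, 2, 6, 4, 0, 8, 4, 6, 4, 1, 1, 1, 4, 6, 3, 3]]

/-- relators of the stage of `y`, part 46. -/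
def relR46 : List (List ℕ) := [[8, 7, 4, 1, 4, 8, 6, 1, 1, 3, 3, 0, 0, 4, 6, 5, 3, 5],
  [8, 7, 4, 1, 4, 8, 5, 2, 1, 6, 2, 4, 4, 2, 2, 5, 7, 5],
  [4, 8, 8, 1, 8, 8, 7, 9, 6, 2, 0, 6, 4, 2, 7, 4, 1],
  [6, 9, 5, 2, 9, 0, 2, 8, 6, 5, 0, 4, 6, 5, 0, 4, 4],
  [9, 3, 1, 5, 8, 7, 2, 8, 3, 1, 7, 3, 5, 1, 5, 0, 4]]

/-- relators of the stage of `y`, part 47. -/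
def relR47 : List (List ℕ) := [[9, 3, 1, 6, 8, 7, 3, 8, 5, 7, 2, 4, 4, 4, 2, 4, 7],
  [9, 3, 1, 6, 8, 2, 6, 9, 7, 0, 7, 4, 1, 5, 5, 5, 6],
  [9, 3, 4, 1, 4, 8, 0, 8, 5, 3, 1, 3, 3, 7, 1, 1, 5],
  [9, 3, 8, 6, 1, 4, 4, 8, 4, 2, 0, 2, 5, 3, 4],
  [9, 0, 0, 6, 4, 8, 3, 8, 5, 2, 6, 5, 5, 5, 7, 4, 2]]

/-- relators of the stage of `y`, part 48. -/
def relR48 : List (List ℕ) := [[9, 0, 2, 7, 9, 3, 8, 2, 2, 2, 6, 5, 5, 6, 2, 0, 6],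
  [9, 0, 2, 8, 3, 7, 4, 8, 3, 7, 4, 2, 6, 2, 2, 2, 6],
  [9, 2, 5, 0, 9, 6, 3, 8, 3, 7, 1, 1, 3, 1, 4, 0, 2],
  [9, 2, 9, 0, 0, 0, 4, 8, 0, 7, 5, 0, 4, 0, 4, 4, 4],
  [9, 2, 8, 5, 6, 8, 8, 8, 1, 3, 3, 7, 5, 6, 3, 5, 3]]

/-- relators of the stage of `y`, part 49. -/
def relR49 : List (List ℕ) := [[9, 7, 7, 2, 4, 9, 2, 9, 5, 0, 6, 4, 0, 2, 4, 2],
  [9, 0, 5, 7, 9, 2, 6, 9, 6, 1, 1, 3, 3, 6, 1],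
  [9, 0, 7, 9, 3, 4, 6, 9, 5, 2, 5, 5, 6, 0, 5, 1, 1],
  [9, 5, 1, 1, 1, 8, 3, 8, 5, 2, 4, 0, 2, 6, 4, 0, 3],
  [9, 5, 1, 5, 7, 8, 4, 8, 7, 5, 1, 1, 6, 0, 0, 7, 5]]

/-- relators of the stage of `y`, part 50. -/
def relR50 : List (List ℕ) := [[9, 5, 3, 1, 9, 9, 5, 8, 6, 4, 1, 5, 6, 5, 5, 0, 4],
  [9, 5, 8, 5, 0, 2, 0, 9, 5, 2, 7, 5, 3, 1, 6, 1],
  [9, 4, 3, 8, 1, 3, 5, 9, 1, 4, 6, 4, 2, 4, 4, 0],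
  [9, 4, 7, 9, 1, 1, 5, 9, 5, 3, 0, 0, 6, 1, 6, 5, 6],
  [9, 4, 8, 0, 4, 0, 6, 8, 1, 7, 4, 2, 2, 6, 4, 0, 7]]

/-- relators of the stage of `y`, part 51. -/
def relR51 : List (List ℕ) := [[9, 4, 8, 6, 5, 3, 0, 9, 5, 1, 7, 2, 2, 5, 5, 7, 1],
  [9, 7, 0, 8, 0, 5, 8, 8, 3, 3, 6, 4, 3, 1, 7, 5, 5],
  [9, 7, 0, 8, 1, 7, 9, 9, 2, 4, 1, 5, 3, 5, 7, 0],
  [9, 7, 5, 7, 3, 9, 2, 9, 7, 5, 6, 5, 3, 3, 5, 5, 7],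
  [9, 7, 8, 8, 4, 1, 7, 9, 5, 2, 6, 2, 0, 2, 5, 5, 5]]

/-- relators of the stage of `y`, part 52. -/
def relR52 : List (List ℕ) := [[8, 1, 3, 3, 1, 8, 2, 9, 6, 3, 1, 6, 3, 5, 5, 5, 1],
  [8, 3, 5, 1, 8, 8, 0, 9, 7, 5, 5, 7, 4, 7, 4, 4],
  [8, 7, 3, 9, 7, 0, 2, 8, 6, 2, 0, 4, 1, 7, 7, 1, 5],
  [8, 6, 3, 8, 4, 1, 9, 9, 0, 4, 4, 4, 2, 4, 6, 4, 7],
  [8, 6, 1, 3, 8, 0, 7, 9, 1, 6, 0, 4, 0, 5, 1, 3, 5, 5]]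

/-- relators of the stage of `y`, part 53. -/
def relR53 : List (List ℕ) := [[8, 1, 6, 4, 2, 8, 4, 9, 2, 6, 6, 0, 4, 4, 1, 4, 0, 4],
  [8, 1, 9, 5, 6, 4, 8, 8, 4, 6, 4, 4, 0, 4, 7, 4, 7, 7],
  [8, 2, 6, 9, 3, 3, 8, 7, 7, 0, 2, 4, 4, 3, 1, 5, 3, 3],
  [8, 2, 9, 6, 1, 3, 5, 9, 3, 1, 5, 6, 0, 6, 0, 0, 4, 7],
  [8, 2, 9, 4, 2, 5, 5, 9, 6, 4, 0, 0, 2, 0, 5, 0, 5, 1]]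

/-- relators of the stage of `y`, part 54. -/
def relR54 : List (List ℕ) := [[8, 2, 8, 7, 1, 6, 9, 9, 1, 5, 0, 6, 1, 3, 1, 6],
  [8, 0, 8, 2, 6, 1, 1, 8, 1, 7, 5, 0, 0, 0, 4, 0, 3, 4],
  [8, 0, 8, 1, 4, 1, 4, 9, 3, 0, 4, 0, 4, 7, 5, 0, 6],
  [8, 5, 1, 5, 0, 8, 0, 8, 3, 7, 0, 6, 0, 0, 0, 5, 2, 5],
  [8, 5, 1, 1, 4, 8, 5, 9, 0, 4, 7, 1, 1, 6, 2, 0, 5, 6]]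

/-- relators of the stage of `y`, part 55. -/
def relR55 : List (List ℕ) := [[8, 5, 7, 8, 5, 0, 6, 8, 5, 6, 4, 3, 1, 5, 7, 0, 6],
  [8, 4, 0, 0, 8, 6, 5, 8, 7, 4, 3, 0, 6, 0, 7, 1, 4],
  [8, 4, 7, 9, 5, 3, 7, 9, 2, 0, 5, 3, 7, 5, 1, 4, 2],
  [3, 9, 2, 8, 1, 9, 1, 9, 5, 0, 4, 0, 2, 0, 6, 1, 7],
  [1, 9, 2, 8, 1, 9, 1, 9, 5, 0, 4, 0, 0, 0, 6, 1, 6]]

/-- relators of the stage of `y`, part 56. -/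
def relR56 : List (List ℕ) := [[2, 8, 0, 8, 0, 9, 3, 8, 3, 1, 3, 0, 4, 7, 7, 5, 5],
  [0, 9, 2, 8, 1, 9, 1, 9, 3, 5, 2, 0, 7, 5, 0, 7, 2],
  [9, 7, 8, 6, 6, 8, 1, 8, 4, 4, 6, 4, 1, 3, 6, 5, 7],
  [8, 3, 8, 3, 4, 8, 4, 9, 0, 6, 6, 4, 3, 3, 6, 1, 6],
  [8, 2, 0, 8, 7, 9, 4, 9, 0, 7, 5, 0, 4, 7, 4, 6]]

/-- relators of the stage of `y`, part 57. -/
def relR57 : List (List ℕ) := [[8, 2, 7, 8, 4, 8, 7, 9, 6, 0, 6, 5, 5, 1, 2, 5, 2],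
  [8, 2, 8, 5, 1, 8, 6, 9, 3, 3, 6, 5, 0, 0, 2, 5, 5],
  [8, 0, 8, 0, 9, 3, 8, 1, 1, 5, 0, 0, 3, 1, 4, 1, 4],
  [8, 4, 2, 8, 3, 9, 2, 8, 3, 6, 0, 0, 3, 5, 5, 3, 4],
  [8, 8, 3, 8, 0, 9, 6, 8, 1, 4, 4, 3, 0, 7, 2, 0, 0, 2]]

/-- relators of the stage of `y`, part 58. -/
def relR58 : List (List ℕ) := [[1, 1, 3, 8, 7, 4, 1, 4, 8, 0, 2, 6, 0, 7, 4, 0, 2],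
  [1, 1, 5, 8, 7, 3, 7, 3, 8, 1, 5, 1, 1, 5, 2, 6, 4, 1],
  [1, 1, 9, 0, 7, 5, 0, 2, 9, 0, 7, 5, 0, 2, 0, 0],
  [1, 1, 9, 4, 2, 2, 1, 6, 9, 2, 0, 0, 7, 2, 4, 7, 2, 6],
  [1, 3, 3, 8, 7, 4, 1, 4, 8, 0, 2, 6, 0, 7, 4, 2, 2]]

/-- relators of the stage of `y`, part 59. -/
def relR59 : List (List ℕ) := [[1, 3, 5, 8, 7, 3, 7, 3, 8, 4, 1, 1, 5, 7, 7, 3, 5, 7],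
  [1, 3, 5, 8, 7, 4, 1, 4, 8, 6, 3, 1, 3, 3, 1, 4, 2, 7],
  [1, 3, 8, 1, 7, 3, 7, 3, 9, 4, 4, 3, 5, 7, 0, 4, 7, 5],
  [1, 3, 8, 0, 4, 0, 2, 7, 8, 0, 2, 6, 0, 2, 7, 5, 0, 6],
  [1, 3, 8, 3, 1, 4, 6, 1, 8, 6, 1, 1, 3, 4, 4, 2]]

/-- relators of the stage of `y`, part 60. -/
def relR60 : List (List ℕ) := [[1, 3, 8, 7, 4, 1, 4, 8, 4, 4, 4, 4, 0, 0, 4, 4, 2],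
  [1, 2, 9, 0, 6, 6, 1, 1, 9, 0, 4, 3, 3, 3, 1, 3, 3, 7],
  [1, 2, 9, 6, 0, 4, 0, 9, 2, 5, 5, 5, 3, 7, 0, 4, 1, 4],
  [1, 2, 8, 1, 6, 0, 5, 6, 8, 3, 7, 3, 0, 4, 1, 1, 1, 1],
  [1, 2, 8, 3, 1, 4, 6, 1, 8, 3, 1, 4, 6, 1, 1, 2]]

/-- relators of the stage of `y`, part 61. -/
def relR61 : List (List ℕ) := [[1, 5, 8, 7, 3, 7, 3, 8, 1, 5, 2, 1, 1, 1, 6, 4, 3, 1],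
  [1, 5, 8, 7, 4, 1, 4, 8, 6, 3, 1, 3, 1, 1, 5, 2, 4, 6],
  [1, 4, 1, 8, 7, 3, 7, 3, 8, 5, 3, 5, 3, 6, 3, 4, 2, 2],
  [1, 4, 0, 9, 5, 0, 5, 6, 9, 3, 1, 6, 0, 2, 0, 0, 6, 3],
  [1, 4, 9, 2, 6, 2, 6, 9, 2, 2, 4, 6, 5, 6, 5, 3, 1, 6]]

/-- relators of the stage of `y`, part 62. -/
def relR62 : List (List ℕ) := [[1, 7, 0, 8, 7, 4, 1, 4, 8, 3, 5, 7, 1, 5, 0, 4, 2],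
  [1, 7, 5, 8, 7, 4, 1, 4, 8, 3, 1, 6, 1, 5, 5, 7, 4, 6],
  [1, 7, 5, 8, 1, 5, 1, 7, 8, 6, 2, 4, 6, 4, 4, 6, 5, 7],
  [1, 7, 4, 9, 5, 0, 5, 6, 9, 4, 6, 4, 3, 3, 5, 5, 7, 7],
  [1, 7, 9, 0, 7, 5, 0, 2, 9, 0, 5, 0, 7, 2, 2, 7]]

/-- relators of the stage of `y`, part 63. -/
def relR63 : List (List ℕ) := [[1, 7, 8, 3, 1, 4, 6, 1, 8, 3, 1, 4, 7, 3, 6, 2],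
  [1, 6, 2, 8, 7, 4, 1, 4, 8, 1, 5, 1, 1, 4, 6, 4, 2],
  [1, 6, 9, 0, 7, 5, 0, 2, 9, 5, 2, 0, 5, 2, 0, 2],
  [1, 6, 9, 6, 0, 4, 0, 9, 4, 2, 2, 4, 6, 4, 6, 1, 4, 4, 2],
  [1, 6, 8, 3, 1, 4, 6, 1, 8, 3, 4, 3, 6, 2, 4, 6]]

/-- relators of the stage of `y`, part 64. -/
def relR64 : List (List ℕ) := [[1, 6, 8, 7, 4, 1, 4, 8, 1, 4, 4, 6, 4, 4, 0, 5, 1, 4],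
  [1, 6, 8, 7, 3, 7, 3, 8, 6, 3, 5, 0, 4, 3, 5, 3, 3, 7, 2],
  [1, 9, 1, 1, 4, 4, 2, 4, 8, 5, 6, 5, 1, 3, 5, 0, 6, 3]]

/-- the relators of the stage of `y`. -/
def relR : List (List ℕ) := relR0 ++ (relR1 ++ (relR2 ++ (relR3 ++ (relR4 ++ (relR5 ++ (relR6 ++ (relR7 ++ (relR8 ++ (relR9 ++ (relR10 ++ (relR11 ++ (relR12 ++ (relR13 ++ (relR14 ++ (relR15 ++ (relR16 ++ (relR17 ++ (relR18 ++ (relR19 ++ (relR20 ++ (relR21 ++ (relR22 ++ (relR23 ++ (relR24 ++ (relR25 ++ (relR26 ++ (relR27 ++ (relR28 ++ (relR29 ++ (relR30 ++ (relR31 ++ (relR32 ++ (relR33 ++ (relR34 ++ (relR35 ++ (relR36 ++ (relR37 ++ (relR38 ++ (relR39 ++ (relR40 ++ (relR41 ++ (relR42 ++ (relR43 ++ (relR44 ++ (relR45 ++ (relR46 ++ (relR47 ++ (relR48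 ++ (relR49 ++ (relR50 ++ (relR51 ++ (relR52 ++ (relR53 ++ (relR54 ++ (relR55 ++ (relR56 ++ (relR57 ++ (relR58 ++ (relR59 ++ (relR60 ++ (relR61 ++ (relR62 ++ (relR63 ++ (relR64))))))))))))))))))))))))))))))))))))))))))))))))))))))))))))))))

/-- the relators of `⟨a, b, c, u⟩`. -/
def relsU : List (List ℕ) := Cfsg.Agent.Helper5.TitX.CC ++ relU

/-- all relators. -/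
def relsR : List (List ℕ) := Cfsg.Agent.Helper5.TitX.CC ++ (relU ++ relR)

end Cfsg.Agent.Helper2.RuM
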