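import Mathlib
import Cfsg.Agent.Helper2.RuM.RelDat
import Cfsg.Agent.Helper2.RuM.Gen

/-! The Rudvalis group on 4060 points: the relators hold, part 0. -/

set_option autoImplicit false
set_option Elab.async false

namespace Cfsg.Agent.Helper2.RuM

set_option maxRecDepth 1000000 in
theorem relR0_ok : relsChk relR0 = true := by decide +kernel

set_option maxRecDepth 1000000 in
theorem relR1_ok : relsChk relR1 = true := by decide +kernel

set_option maxRecDepth 1000000 in
theorem relR2_ok : relsChk relR2 = true := by decide +kernel

set_option maxRecDepth 1000000 in
theorem relR3_ok : relsChk relR3 = true := by decide +kernel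

set_option maxRecDepth 1000000 in
theorem relR4_ok : relsChk relR4 = true := by decide +kernel

set_option maxRecDepth 1000000 in
theorem relR5_ok : relsChk relR5 = true := by decide +kernel

set_option maxRecDepth 1000000 in
theorem relR6_ok : relsChk relR6 = true := by decide +kernel

set_option maxRecDepth 1000000 in
theorem relR7_ok : relsChk relR7 = true := by decide +kernel

end Cfsg.Agent.Helper2.RuM
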