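import Mathlib
import Cfsg.Agent.Helper2.RuM.RelDat
import Cfsg.Agent.Helper2.RuM.Gen

/-! The Rudvalis group on 4060 points: the relators hold, part 1. -/

set_option autoImplicit false
set_option Elab.async false

namespace Cfsg.Agent.Helper2.RuM

set_option maxRecDepth 1000000 in
theorem relR8_ok : relsChk relR8 = true := by decide +kernel

set_option maxRecDepth 1000000 in
theorem relR9_ok : relsChk relR9 = true := by decide +kernel

set_option maxRecDepth 1000000 in
theorem relR10_ok : relsChk relR10 = true := by decide +kernel

set_option maxRecDepth 1000000 in
theorem relR11_ok : relsChk relR11 = true := by decide +kernel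

set_option maxRecDepth 1000000 in
theorem relR12_ok : relsChk relR12 = true := by decide +kernel

set_option maxRecDepth 1000000 in
theorem relR13_ok : relsChk relR13 = true := by decide +kernel

set_option maxRecDepth 1000000 in
theorem relR14_ok : relsChk relR14 = true := by decide +kernel

set_option maxRecDepth 1000000 in
theorem relR15_ok : relsChk relR15 = true := by decide +kernel

end Cfsg.Agent.Helper2.RuM
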