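import Mathlib
import Cfsg.Agent.Helper2.RuM.RelDat
import Cfsg.Agent.Helper2.RuM.Gen

/-! The Rudvalis group on 4060 points: the relators hold, part 2. -/

set_option autoImplicit false
set_option Elab.async false

namespace Cfsg.Agent.Helper2.RuM

set_option maxRecDepth 1000000 in
theorem relR16_ok : relsChk relR16 = true := by decide +kernel

set_option maxRecDepth 1000000 in
theorem relR17_ok : relsChk relR17 = true := by decide +kernel

set_option maxRecDepth 1000000 in
theorem relR18_ok : relsChk relR18 = true := by decide +kernel

set_option maxRecDepth 1000000 in
theorem relR19_ok : relsChk relR19 = true := by decide +kernel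

set_option maxRecDepth 1000000 in
theorem relR20_ok : relsChk relR20 = true := by decide +kernel

set_option maxRecDepth 1000000 in
theorem relR21_ok : relsChk relR21 = true := by decide +kernel

set_option maxRecDepth 1000000 in
theorem relR22_ok : relsChk relR22 = true := by decide +kernel

set_option maxRecDepth 1000000 in
theorem relR23_ok : relsChk relR23 = true := by decide +kernel

end Cfsg.Agent.Helper2.RuM
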