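import Mathlib
import Cfsg.Agent.Helper2.RuM.RelDat
import Cfsg.Agent.Helper2.RuM.Gen

/-! The Rudvalis group on 4060 points: the relators hold, part 3. -/

set_option autoImplicit false
set_option Elab.async false

namespace Cfsg.Agent.Helper2.RuM

set_option maxRecDepth 1000000 in
theorem relR24_ok : relsChk relR24 = true := by decide +kernel

set_option maxRecDepth 1000000 in
theorem relR25_ok : relsChk relR25 = true := by decide +kernel

set_option maxRecDepth 1000000 in
theorem relR26_ok : relsChk relR26 = true := by decide +kernel

set_option maxRecDepth 1000000 in
theorem relR27_ok : relsChk relR27 = true := by decide +kernel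

set_option maxRecDepth 1000000 in
theorem relR28_ok : relsChk relR28 = true := by decide +kernel

set_option maxRecDepth 1000000 in
theorem relR29_ok : relsChk relR29 = true := by decide +kernel

set_option maxRecDepth 1000000 in
theorem relR30_ok : relsChk relR30 = true := by decide +kernel

set_option maxRecDepth 1000000 in
theorem relR31_ok : relsChk relR31 = true := by decide +kernel

end Cfsg.Agent.Helper2.RuM
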