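import Mathlib
import Cfsg.Agent.Helper2.RuM.RelDat
import Cfsg.Agent.Helper2.RuM.Gen

/-! The Rudvalis group on 4060 points: the relators hold, part 4. -/

set_option autoImplicit false
set_option Elab.async false

namespace Cfsg.Agent.Helper2.RuM

set_option maxRecDepth 1000000 in
theorem relR32_ok : relsChk relR32 = true := by decide +kernel

set_option maxRecDepth 1000000 in
theorem relR33_ok : relsChk relR33 = true := by decide +kernel

set_option maxRecDepth 1000000 in
theorem relR34_ok : relsChk relR34 = true := by decide +kernel

set_option maxRecDepth 1000000 in
theorem relR35_ok : relsChk relR35 = true := by decide +kernel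

set_option maxRecDepth 1000000 in
theorem relR36_ok : relsChk relR36 = true := by decide +kernel

set_option maxRecDepth 1000000 in
theorem relR37_ok : relsChk relR37 = true := by decide +kernel

set_option maxRecDepth 1000000 in
theorem relR38_ok : relsChk relR38 = true := by decide +kernel

set_option maxRecDepth 1000000 in
theorem relR39_ok : relsChk relR39 = true := by decide +kernel

end Cfsg.Agent.Helper2.RuM
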