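import Mathlib
import Cfsg.Agent.Helper2.RuM.RelDat
import Cfsg.Agent.Helper2.RuM.Gen

/-! The Rudvalis group on 4060 points: the relators hold, part 5. -/

set_option autoImplicit false
set_option Elab.async false

namespace Cfsg.Agent.Helper2.RuM

set_option maxRecDepth 1000000 in
theorem relR40_ok : relsChk relR40 = true := by decide +kernel

set_option maxRecDepth 1000000 in
theorem relR41_ok : relsChk relR41 = true := by decide +kernel

set_option maxRecDepth 1000000 in
theorem relR42_ok : relsChk relR42 = true := by decide +kernel

set_option maxRecDepth 1000000 in
theorem relR43_ok : relsChk relR43 = true := by decide +kernel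

set_option maxRecDepth 1000000 in
theorem relR44_ok : relsChk relR44 = true := by decide +kernel

set_option maxRecDepth 1000000 in
theorem relR45_ok : relsChk relR45 = true := by decide +kernel

set_option maxRecDepth 1000000 in
theorem relR46_ok : relsChk relR46 = true := by decide +kernel

set_option maxRecDepth 1000000 in
theorem relR47_ok : relsChk relR47 = true := by decide +kernel

end Cfsg.Agent.Helper2.RuM
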