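import Mathlib
import Cfsg.Agent.Helper2.RuM.RelDat
import Cfsg.Agent.Helper2.RuM.Gen

/-! The Rudvalis group on 4060 points: the relators hold, part 6. -/

set_option autoImplicit false
set_option Elab.async false

namespace Cfsg.Agent.Helper2.RuM

set_option maxRecDepth 1000000 in
theorem relR48_ok : relsChk relR48 = true := by decide +kernel

set_option maxRecDepth 1000000 in
theorem relR49_ok : relsChk relR49 = true := by decide +kernel

set_option maxRecDepth 1000000 in
theorem relR50_ok : relsChk relR50 = true := by decide +kernel

set_option maxRecDepth 1000000 in
theorem relR51_ok : relsChk relR51 = true := by decide +kernel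

set_option maxRecDepth 1000000 in
theorem relR52_ok : relsChk relR52 = true := by decide +kernel

set_option maxRecDepth 1000000 in
theorem relR53_ok : relsChk relR53 = true := by decide +kernel

set_option maxRecDepth 1000000 in
theorem relR54_ok : relsChk relR54 = true := by decide +kernel

set_option maxRecDepth 1000000 in
theorem relR55_ok : relsChk relR55 = true := by decide +kernel

end Cfsg.Agent.Helper2.RuM
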