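import Mathlib
import Cfsg.Agent.Helper2.RuM.RelDat
import Cfsg.Agent.Helper2.RuM.Gen

/-! The Rudvalis group on 4060 points: the relators hold, part 7. -/

set_option autoImplicit false
set_option Elab.async false

namespace Cfsg.Agent.Helper2.RuM

set_option maxRecDepth 1000000 in
theorem relR56_ok : relsChk relR56 = true := by decide +kernel

set_option maxRecDepth 1000000 in
theorem relR57_ok : relsChk relR57 = true := by decide +kernel

set_option maxRecDepth 1000000 in
theorem relR58_ok : relsChk relR58 = true := by decide +kernel

set_option maxRecDepth 1000000 in
theorem relR59_ok : relsChk relR59 = true := by decide +kernel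

set_option maxRecDepth 1000000 in
theorem relR60_ok : relsChk relR60 = true := by decide +kernel

set_option maxRecDepth 1000000 in
theorem relR61_ok : relsChk relR61 = true := by decide +kernel

set_option maxRecDepth 1000000 in
theorem relR62_ok : relsChk relR62 = true := by decide +kernel

set_option maxRecDepth 1000000 in
theorem relR63_ok : relsChk relR63 = true := by decide +kernel

end Cfsg.Agent.Helper2.RuM
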