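import Mathlib
import Cfsg.Agent.Helper2.RuM.RelDat
import Cfsg.Agent.Helper2.RuM.Gen

/-! The Rudvalis group on 4060 points: the relators of the lower stages and the orders. -/

set_option autoImplicit false
set_option Elab.async false

namespace Cfsg.Agent.Helper2.RuM

open Cfsg.Agent.Helper9.OutG

/-- the relators of the Tits group of Helper5, in three parts. -/
def relT0 : List (List ℕ) := [[5, 0, 0, 2, 1, 1, 1, 3, 0, 4, 3, 1, 1, 1, 3, 3, 3, 3, 3], [5, 0, 0, 0, 0, 2, 2, 2, 0, 0, 4, 1, 2, 2, 0, 0, 0, 0, 3, 1, 1], [4, 4, 0, 4, 4, 0, 4, 4, 0], [5, 5, 1, 5, 5, 1, 5, 5, 1]]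

/-- second part. -/
def relT1 : List (List ℕ) := [[4, 4, 1, 5, 2, 0, 2, 4, 2, 0, 0, 0, 0, 2], [5, 2, 0, 5, 2, 1, 3, 4, 4, 0, 0, 3, 3, 3], [5, 2, 1, 3, 4, 4, 3, 3, 4, 0, 0, 0, 3, 1], [4, 1, 3, 1, 3, 4, 1, 3, 3, 4, 2, 0, 0, 2, 0]]

/-- third part. -/
def relT2 : List (List ℕ) := [[0, 3, 0, 3], [0, 0, 3, 3, 0, 0, 3, 3], [0, 2, 0, 2, 0, 2, 0, 2, 0, 2, 0, 2], [0, 0, 0, 0, 2, 0, 0, 0, 0, 2, 0, 0, 0, 0, 2]]

theorem relT_eq : Cfsg.Agent.Helper5.TitX.CC = relT0 ++ (relT1 ++ relT2) := by decide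

set_option maxRecDepth 1000000 in
theorem relT0_ok : relsChk relT0 = true := by decide +kernel

set_option maxRecDepth 1000000 in
theorem relT1_ok : relsChk relT1 = true := by decide +kernel

set_option maxRecDepth 1000000 in
theorem relT2_ok : relsChk relT2 = true := by decide +kernel

set_option maxRecDepth 1000000 in
theorem relU_ok : relsChk relU = true := by decide +kernel

set_option maxRecDepth 1000000 in
theorem pow0_ok : relChk (repW [0] 13) = true := by decide +kernel

set_option maxRecDepth 1000000 in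
theorem pow1_ok : relChk (repW [2] 13) = true := by decide +kernel

set_option maxRecDepth 1000000 in
theorem pow2_ok : relChk (repW [4] 13) = true := by decide +kernel

set_option maxRecDepth 1000000 in
theorem pow3_ok : relChk (repW [6] 4) = true := by decide +kernel

set_option maxRecDepth 1000000 in
theorem pow4_ok : relChk (repW [8] 29) = true := by decide +kernel

end Cfsg.Agent.Helper2.RuM
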