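import Mathlib
import Cfsg.Agent.Helper2.RuM.RelChkL
import Cfsg.Agent.Helper2.RuM.RelChk0
import Cfsg.Agent.Helper2.RuM.RelChk1
import Cfsg.Agent.Helper2.RuM.RelChk2
import Cfsg.Agent.Helper2.RuM.RelChk3
import Cfsg.Agent.Helper2.RuM.RelChk4
import Cfsg.Agent.Helper2.RuM.RelChk5
import Cfsg.Agent.Helper2.RuM.RelChk6
import Cfsg.Agent.Helper2.RuM.RelChk7
import Cfsg.Agent.Helper2.RuM.RelChk8

/-! The Rudvalis group on 4060 points: all relators of the stage of `y` hold. -/

set_option autoImplicit false

namespace Cfsg.Agent.Helper2.RuM

open Cfsg Cfsg.Agent.Helper5.StemP

theorem relR_ok : ∀ w ∈ relR, (∀ c ∈ w, c < 10) ∧ (w.map (lval g)).prod = 1 := by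
  intro w hw
  unfold relR at hw
  rcases List.mem_append.mp hw with h | hw
  · exact relsChk_true relR0_ok w h
  rcases List.mem_append.mp hw with h | hw
  · exact relsChk_true relR1_ok w h
  rcases List.mem_append.mp hw with h | hw
  · exact relsChk_true relR2_ok w h
  rcases List.mem_append.mp hw with h | hw
  · exact relsChk_true relR3_ok w h
  rcases List.mem_append.mp hw with h | hw
  · exact relsChk_true relR4_ok w h
  rcases List.mem_append.mp hw with h | hw
  · exact relsChk_true relR5_ok w h
  rcases List.mem_append.mp hw with h | hw
  · exact relsChk_true relR6_ok w h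
  rcases List.mem_append.mp hw with h | hw
  · exact relsChk_true relR7_ok w h
  rcases List.mem_append.mp hw with h | hw
  · exact relsChk_true relR8_ok w h
  rcases List.mem_append.mp hw with h | hw
  · exact relsChk_true relR9_ok w h
  rcases List.mem_append.mp hw with h | hw
  · exact relsChk_true relR10_ok w h
  rcases List.mem_append.mp hw with h | hw
  · exact relsChk_true relR11_ok w h
  rcases List.mem_append.mp hw with h | hw
  · exact relsChk_true relR12_ok w h
  rcases List.mem_append.mp hw with h | hw
  · exact relsChk_true relR13_ok w h
  rcases List.mem_append.mp hw with h | hw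
  · exact relsChk_true relR14_ok w h
  rcases List.mem_append.mp hw with h | hw
  · exact relsChk_true relR15_ok w h
  rcases List.mem_append.mp hw with h | hw
  · exact relsChk_true relR16_ok w h
  rcases List.mem_append.mp hw with h | hw
  · exact relsChk_true relR17_ok w h
  rcases List.mem_append.mp hw with h | hw
  · exact relsChk_true relR18_ok w h
  rcases List.mem_append.mp hw with h | hw
  · exact relsChk_true relR19_ok w h
  rcases List.mem_append.mp hw with h | hw
  · exact relsChk_true relR20_ok w h
  rcases List.mem_append.mp hw with h | hw
  · exact relsChk_true relR21_ok w h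
  rcases List.mem_append.mp hw with h | hw
  · exact relsChk_true relR22_ok w h
  rcases List.mem_append.mp hw with h | hw
  · exact relsChk_true relR23_ok w h
  rcases List.mem_append.mp hw with h | hw
  · exact relsChk_true relR24_ok w h
  rcases List.mem_append.mp hw with h | hw
  · exact relsChk_true relR25_ok w h
  rcases List.mem_append.mp hw with h | hw
  · exact relsChk_true relR26_ok w h
  rcases List.mem_append.mp hw with h | hw
  · exact relsChk_true relR27_ok w h
  rcases List.mem_append.mp hw with h | hw
  · exact relsChk_true relR28_ok w h
  rcases List.mem_append.mp hw with h | hw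
  · exact relsChk_true relR29_ok w h
  rcases List.mem_append.mp hw with h | hw
  · exact relsChk_true relR30_ok w h
  rcases List.mem_append.mp hw with h | hw
  · exact relsChk_true relR31_ok w h
  rcases List.mem_append.mp hw with h | hw
  · exact relsChk_true relR32_ok w h
  rcases List.mem_append.mp hw with h | hw
  · exact relsChk_true relR33_ok w h
  rcases List.mem_append.mp hw with h | hw
  · exact relsChk_true relR34_ok w h
  rcases List.mem_append.mp hw with h | hw
  · exact relsChk_true relR35_ok w h
  rcases List.mem_append.mp hw with h | hw
  · exact relsChk_true relR36_ok w h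
  rcases List.mem_append.mp hw with h | hw
  · exact relsChk_true relR37_ok w h
  rcases List.mem_append.mp hw with h | hw
  · exact relsChk_true relR38_ok w h
  rcases List.mem_append.mp hw with h | hw
  · exact relsChk_true relR39_ok w h
  rcases List.mem_append.mp hw with h | hw
  · exact relsChk_true relR40_ok w h
  rcases List.mem_append.mp hw with h | hw
  · exact relsChk_true relR41_ok w h
  rcases List.mem_append.mp hw with h | hw
  · exact relsChk_true relR42_ok w h
  rcases List.mem_append.mp hw with h | hw
  · exact relsChk_true relR43_ok w h
  rcases List.mem_append.mp hw with h | hw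
  · exact relsChk_true relR44_ok w h
  rcases List.mem_append.mp hw with h | hw
  · exact relsChk_true relR45_ok w h
  rcases List.mem_append.mp hw with h | hw
  · exact relsChk_true relR46_ok w h
  rcases List.mem_append.mp hw with h | hw
  · exact relsChk_true relR47_ok w h
  rcases List.mem_append.mp hw with h | hw
  · exact relsChk_true relR48_ok w h
  rcases List.mem_append.mp hw with h | hw
  · exact relsChk_true relR49_ok w h
  rcases List.mem_append.mp hw with h | hw
  · exact relsChk_true relR50_ok w h
  rcases List.mem_append.mp hw with h | hw
  · exact relsChk_true relR51_ok w h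
  rcases List.mem_append.mp hw with h | hw
  · exact relsChk_true relR52_ok w h
  rcases List.mem_append.mp hw with h | hw
  · exact relsChk_true relR53_ok w h
  rcases List.mem_append.mp hw with h | hw
  · exact relsChk_true relR54_ok w h
  rcases List.mem_append.mp hw with h | hw
  · exact relsChk_true relR55_ok w h
  rcases List.mem_append.mp hw with h | hw
  · exact relsChk_true relR56_ok w h
  rcases List.mem_append.mp hw with h | hw
  · exact relsChk_true relR57_ok w h
  rcases List.mem_append.mp hw with h | hw
  · exact relsChk_true relR58_ok w h
  rcases List.mem_append.mp hw with h | hw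
  · exact relsChk_true relR59_ok w h
  rcases List.mem_append.mp hw with h | hw
  · exact relsChk_true relR60_ok w h
  rcases List.mem_append.mp hw with h | hw
  · exact relsChk_true relR61_ok w h
  rcases List.mem_append.mp hw with h | hw
  · exact relsChk_true relR62_ok w h
  rcases List.mem_append.mp hw with h | hw
  · exact relsChk_true relR63_ok w h
  exact relsChk_true relR64_ok w hw

end Cfsg.Agent.Helper2.RuM
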