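import Mathlib
import Cfsg.Agent.Helper2.RuM.RelAll
import Cfsg.Agent.Helper5.TitXChk

/-!
# The Rudvalis group on 4060 points: the three stages

`⟨a, b, c⟩` (the Tits group), `⟨a, b, c, u⟩` (`²F₄(2)`), `⟨a, b, c, u, y⟩` (the Rudvalis group).
-/

set_option autoImplicit false

namespace Cfsg.Agent.Helper2.RuM

open Cfsg Cfsg.Agent.Helper5 Cfsg.Agent.Helper5.StemP Cfsg.Agent.Helper2.Tw
  Cfsg.Agent.Helper9.OutG

theorem g_pow : ∀ i, i < 5 → g i ^ mm i = 1 := by
  intro i hi
  interval_cases i
  · exact g_pow_of_chk (i := 0) (by norm_num) pow0_ok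
  · exact g_pow_of_chk (i := 1) (by norm_num) pow1_ok
  · exact g_pow_of_chk (i := 2) (by norm_num) pow2_ok
  · exact g_pow_of_chk (i := 3) (by norm_num) pow3_ok
  · exact g_pow_of_chk (i := 4) (by norm_num) pow4_ok

theorem relT_all : ∀ w ∈ TitX.CC, (∀ c ∈ w, c < 10) ∧ (w.map (lval g)).prod = 1 := by
  intro w hw
  rw [relT_eq] at hw
  rcases List.mem_append.mp hw with h | hw
  · exact relsChk_true relT0_ok w h
  rcases List.mem_append.mp hw with h | hw
  · exact relsChk_true relT1_ok w h
  · exact relsChk_true relT2_ok w hw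

theorem relU_all : ∀ w ∈ relU, (∀ c ∈ w, c < 10) ∧ (w.map (lval g)).prod = 1 :=
  relsChk_true relU_ok

theorem relsU_lt : ∀ r ∈ relsU, ∀ c ∈ r, c < 2 * 4 := by decide

theorem CC_sub_relsU : ∀ r ∈ TitX.CC, r ∈ relsU := fun _ hr => List.mem_append_left _ hr

theorem relsU_sub_relsR : ∀ r ∈ relsU, r ∈ relsR := by
  intro r hr
  unfold relsU at hr
  unfold relsR
  rcases List.mem_append.mp hr with h | h
  · exact List.mem_append_left _ h
  · exact List.mem_append_right _ (List.mem_append_left _ h)

theorem relsR_all : ∀ w ∈ relsR, (∀ c ∈ w, c < 10) ∧ (w.map (lval g)).prod = 1 := by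
  intro w hw
  unfold relsR at hw
  rcases List.mem_append.mp hw with h | hw
  · exact relT_all w h
  rcases List.mem_append.mp hw with h | hw
  · exact relU_all w h
  · exact relR_ok w hw

/-- the stage of the Tits group. -/
theorem stageT : Stage g mm 3 TitX.CC where
  lt := TitX.CC_lt
  rel := fun r hr => (relT_all r hr).2
  pow := fun i hi => g_pow i (by omega)

/-- the stage of `²F₄(2)`. -/
theorem stageU : Stage g mm 4 relsU where
  lt := relsU_lt
  rel := fun r hr => (relsR_all r (relsU_sub_relsR r hr)).2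
  pow := fun i hi => g_pow i (by omega)

/-- the stage of the Rudvalis group. -/
theorem stageR : Stage g mm 5 relsR where
  lt := fun r hr c hc => by
    have := (relsR_all r hr).1 c hc
    omega
  rel := fun r hr => (relsR_all r hr).2
  pow := g_pow

end Cfsg.Agent.Helper2.RuM
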