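import Mathlib
import Cfsg.Agent.Helper2.RuM.Stage
import Cfsg.Agent.Helper2.RuUSum
import Cfsg.Agent.Helper2.RuRSum
import Cfsg.Agent.Helper5.TitXCov
import Cfsg.Agent.Helper3.CovQuot

/-!
# The Rudvalis group on 4060 points: the orders of the presented groups of the stages

The presented group of the stage of the Tits group is a quotient of the covering group of exponent
30 of Helper5; the two other stages by Todd–Coxeter certificates over the previous stage (2 and 4060
cosets).
-/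

set_option autoImplicit false

namespace Cfsg.Agent.Helper2.RuM

open Cfsg Cfsg.Agent.Helper5 Cfsg.Agent.Helper5.LP Cfsg.Agent.Helper5.StemP Cfsg.Agent.Helper5.LTC
  Cfsg.Agent.Helper2.Tw Cfsg.Agent.Helper3

theorem rels_mm (e : ℕ) :
    coverRels 3 mm TitX.CC TitX.CC e = coverRels 3 TitX.mm TitX.CC TitX.CC e := rfl

/-- the presented group of the stage of the Tits group. -/
theorem boundT : Finite (CovG 3 mm TitX.CC TitX.CC 1) ∧
    Nat.card (CovG 3 mm TitX.CC TitX.CC 1) ≤ 17971200 := by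
  have hs := CovQ.quot_surjective 3 TitX.mm TitX.CC TitX.CC 30 1 TitX.CC2_lt (one_dvd 30)
  have hF := TitX.card_le_F
  have := hF.1
  have h1 : Finite (CovG 3 TitX.mm TitX.CC TitX.CC 1) := Finite.of_surjective _ hs
  have h2 : Nat.card (CovG 3 TitX.mm TitX.CC TitX.CC 1) ≤ 17971200 :=
    (Nat.card_le_card_of_surjective _ hs).trans hF.2
  exact ⟨h1, h2⟩

/-! ### the stage of `u` -/

theorem words_lt_U : ∀ wi, ∀ c ∈ RuU.cert.W wi, c < 2 * 4 := by
  intro wi
  have h : ∀ g ∈ RuU.words2, ∀ w ∈ g, ∀ c ∈ w, c < 8 := by decide +kernel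
  exact getD2_lt h (Nat.div wi 32) (Nat.mod wi 32)

set_option maxRecDepth 1000000 in
theorem wordOK_U : ∀ wi, wi < RuU.cert.nrel →
    wordOK4 4 mm relsU (RuU.cert.W wi) (RuU.cert.δ wi) (RuU.origs.getD wi 0) = true := by
  decide +kernel

theorem hsubs_U : ∀ wi, RuU.cert.nrel ≤ wi → wi < RuU.cert.nw →
    ∃ c, c < 2 * 3 ∧ RuU.cert.W wi = [c] := by
  intro wi h1 h2
  have h1' : 17 ≤ wi := h1
  have h2' : wi < 20 := h2
  interval_cases wi
  · exact ⟨0, by norm_num, by decide +kernel⟩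
  · exact ⟨2, by norm_num, by decide +kernel⟩
  · exact ⟨4, by norm_num, by decide +kernel⟩

/-- the presented group of the stage of `²F₄(2)`. -/
theorem boundU : Finite (CovG 4 mm relsU relsU 1) ∧
    Nat.card (CovG 4 mm relsU relsU 1) ≤ 35942400 := by
  have h := stage_bound_word stageT stageU (by norm_num) CC_sub_relsU boundT.1 boundT.2
    RuU.cert rfl rfl rfl words_lt_U (fun wi => RuU.origs.getD wi 0) wordOK_U hsubs_U RuU.hchk
    RuU.tab (by decide +kernel) (by decide) RuU.hT RuU.js RuU.hjs 0 1 (by norm_num) (by norm_num)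
    RuU.cs0 RuU.h0
  have hN : RuU.tab.N = 2 := rfl
  rw [hN] at h
  exact ⟨h.1, h.2.trans (by norm_num)⟩

/-! ### the stage of `y` -/

theorem words_lt_R : ∀ wi, ∀ c ∈ RuR.cert.W wi, c < 2 * 5 := by
  intro wi
  have h : ∀ g ∈ RuR.words2, ∀ w ∈ g, ∀ c ∈ w, c < 10 := by decide +kernel
  exact getD2_lt h (Nat.div wi 32) (Nat.mod wi 32)

set_option maxRecDepth 1000000 in
theorem wordOK_R : ∀ wi, wi < RuR.cert.nrel →
    wordOK4 5 mm relsR (RuR.cert.W wi) (RuR.cert.δ wi) (RuR.origs.getD wi 0) = true := by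
  decide +kernel

theorem hsubs_R : ∀ wi, RuR.cert.nrel ≤ wi → wi < RuR.cert.nw →
    ∃ c, c < 2 * 4 ∧ RuR.cert.W wi = [c] := by
  intro wi h1 h2
  have h1' : 355 ≤ wi := h1
  have h2' : wi < 359 := h2
  interval_cases wi
  · exact ⟨0, by norm_num, by decide +kernel⟩
  · exact ⟨2, by norm_num, by decide +kernel⟩
  · exact ⟨4, by norm_num, by decide +kernel⟩
  · exact ⟨6, by norm_num, by decide +kernel⟩

/-- the presented group of the stage of the Rudvalis group. -/
theorem boundR : Finite (CovG 5 mm relsR relsR 1) ∧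
    Nat.card (CovG 5 mm relsR relsR 1) ≤ 145926144000 := by
  have h := stage_bound_word stageU stageR (by norm_num) relsU_sub_relsR boundU.1 boundU.2
    RuR.cert rfl rfl rfl words_lt_R (fun wi => RuR.origs.getD wi 0) wordOK_R hsubs_R RuR.hchk
    RuR.tab (by decide +kernel) (by decide) RuR.hT RuR.js RuR.hjs 0 1 (by norm_num) (by norm_num)
    RuR.cs0 RuR.h0
  have hN : RuR.tab.N = 4060 := rfl
  rw [hN] at h
  exact ⟨h.1, h.2.trans (by norm_num)⟩

end Cfsg.Agent.Helper2.RuM
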