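import Mathlib
import Cfsg.Agent.Helper2.RuM.Gen

/-!
# The Rudvalis group on 4060 points: elements of order 29

The words `y`, `y⁻¹`, and for each of `a, b, c, u` a conjugate `t` of `y` such that the product of
`t` and the generator has order 29.
-/

set_option autoImplicit false
set_option Elab.async false

noncomputable section

namespace Cfsg.Agent.Helper2.RuM

open Cfsg Cfsg.Agent.Helper5.StemP Cfsg.Agent.Helper9.OutG Cfsg.Agent.Helper9.J3

/-- the word has its letters below 10, its `n`-th power acts trivially and it moves the point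
`0`. -/
def ordChk (w : List ℕ) (n : ℕ) : Bool :=
  andB (ltW w 10) (andB (relChk (repW w n)) (notB (Nat.beq (evalT dD w 0) 0)))

theorem ordChk_true {w : List ℕ} {n : ℕ} (hn : n.Prime) (h : ordChk w n = true) :
    (∀ c ∈ w, c < 10) ∧ orderOf (permW dD hD w) = n := by
  obtain ⟨h1, h2⟩ := andB_true h
  obtain ⟨h2, h3⟩ := andB_true h2
  refine ⟨ltW_true h1, ?_⟩
  have : Fact n.Prime := ⟨hn⟩
  apply orderOf_eq_prime
  · rw [← permW_repW]
    exact permW_eq_one h2
  · intro h4
    have h5 := permW_apply dD hD w ⟨0, by decide⟩
    rw [h4] at h5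
    have h6 := notB_true h3
    have h7 : evalT dD w 0 = 0 := h5.symm
    rw [h7] at h6
    exact absurd h6 (by decide)

/-- the words of order 29. -/
def W29 : List (List ℕ) :=
  [[8], [9], [2, 0, 8, 1, 3], [2, 0, 8, 1, 3, 0], [1, 8, 0], [1, 8, 0, 2], [6, 8, 7], [6, 8, 7, 4],
    [9, 6]]

set_option maxRecDepth 1000000 in
theorem w29_0 : ordChk [8] 29 = true := by decide +kernel

set_option maxRecDepth 1000000 in
theorem w29_1 : ordChk [9] 29 = true := by decide +kernel

set_option maxRecDepth 1000000 in
theorem w29_2 : ordChk [2, 0, 8, 1, 3] 29 = true := by decide +kernel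

set_option maxRecDepth 1000000 in
theorem w29_3 : ordChk [2, 0, 8, 1, 3, 0] 29 = true := by decide +kernel

set_option maxRecDepth 1000000 in
theorem w29_4 : ordChk [1, 8, 0] 29 = true := by decide +kernel

set_option maxRecDepth 1000000 in
theorem w29_5 : ordChk [1, 8, 0, 2] 29 = true := by decide +kernel

set_option maxRecDepth 1000000 in
theorem w29_6 : ordChk [6, 8, 7] 29 = true := by decide +kernel

set_option maxRecDepth 1000000 in
theorem w29_7 : ordChk [6, 8, 7, 4] 29 = true := by decide +kernel

set_option maxRecDepth 1000000 in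
theorem w29_8 : ordChk [9, 6] 29 = true := by decide +kernel

theorem w29_all : ∀ w ∈ W29, (∀ c ∈ w, c < 10) ∧ orderOf (permW dD hD w) = 29 := by
  have hp : Nat.Prime 29 := by norm_num
  intro w hw
  unfold W29 at hw
  simp only [List.mem_cons, List.mem_nil_iff, or_false] at hw
  rcases hw with rfl | rfl | rfl | rfl | rfl | rfl | rfl | rfl | rfl
  · exact ordChk_true hp w29_0
  · exact ordChk_true hp w29_1
  · exact ordChk_true hp w29_2
  · exact ordChk_true hp w29_3
  · exact ordChk_true hp w29_4
  · exact ordChk_true hp w29_5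
  · exact ordChk_true hp w29_6
  · exact ordChk_true hp w29_7
  · exact ordChk_true hp w29_8

/-- the generator `a` moves the point `1`, the letters `a, b, c, u` and their inverses fix the
point `0`. -/
theorem fix0 : allB (fun c => Nat.beq (T dD c 0) 0) 8 = true := by decide +kernel

theorem a_moves : Nat.beq (T dD 0 1) 1 = false := by decide +kernel

end Cfsg.Agent.Helper2.RuM

end
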