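import Mathlib
import Cfsg.Agent.Helper2.RuM.Cov
import Cfsg.Agent.Helper2.RuM.ChainChk
import Cfsg.Agent.Helper2.RuM.Ord29
import Cfsg.Agent.Helper2.RuM.Asm
import Cfsg.Agent.Helper5.TitXFin

/-!
# The Rudvalis group on 4060 points

The group `HRu` generated by `a, b, c, u, y`: its order from the tower of presentations and a
stabiliser chain, its simplicity from the primitivity of the action and the prime 29, and the
subgroup `RT` generated by `a, b, c`, a quotient of the presented Tits group of Helper5.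
-/

set_option autoImplicit false

noncomputable section

namespace Cfsg.Agent.Helper2.RuM

open Cfsg Cfsg.Agent.Helper5 Cfsg.Agent.Helper5.LP Cfsg.Agent.Helper5.StemP Cfsg.Agent.Helper5.LTC
  Cfsg.Agent.Helper2.Tw Cfsg.Agent.Helper9.OutG Cfsg.Agent.Helper9.J3

/-- the presented group of the last stage. -/
abbrev GR : Type := CovG 5 mm relsR relsR 1

/-- the value of a word in the presented group. -/
abbrev evR (l : List ℕ) : GR := ev (2 * 5) (coverRels 5 mm relsR relsR 1) l

instance finGR : Finite GR := boundR.1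

theorem evalT_eq_actL (l : List ℕ) (x : ℕ) : evalT dD l x = actL (T dD) l x := by
  induction l with
  | nil => rfl
  | cons k l ih =>
    rw [evalT_cons, ih]
    rfl

theorem pi_evR (l : List ℕ) (hl : ∀ c ∈ l, c < 10) : stageR.pi 1 (evR l) = permW dD hD l := by
  rw [stageR.pi_ev 1 l (fun c hc => by have := hl c hc; omega), word_perm l hl]

theorem actsOnR : ActsOn (stageR.pi 1) evR (2 * 5) (T dD) :=
  ⟨fun l hl v => by
    have hl' : ∀ c ∈ l, c < 10 := fun c hc => by have := hl c hc; omega
    rw [pi_evR l hl', permW_apply, evalT_eq_actL]⟩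

/-- the Rudvalis group. -/
def HRu : Subgroup PP := (stageR.pi 1).range

theorem card_HRu_ge : 145926144000 ≤ Nat.card HRu := by
  have h1 := chain_lower actsOnR levelsRu [] chainRu_ok
  rw [chainRu_prod] at h1
  exact h1.trans (Subgroup.card_le_of_le inf_le_left)

theorem boundRu : stageR.Bound 1 145926144000 := ⟨boundR.1, boundR.2, card_HRu_ge⟩

theorem piR_injective : Function.Injective (stageR.pi 1) := stageR.pi_injective boundRu

theorem card_GR : Nat.card GR = 145926144000 := by
  apply le_antisymm boundR.2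
  have h2 : Nat.card GR = Nat.card HRu := stageR.card_eq boundRu
  rw [h2]
  exact card_HRu_ge

theorem card_HRu : Nat.card HRu = 145926144000 := by
  have h2 : Nat.card GR = Nat.card HRu := stageR.card_eq boundRu
  rw [card_GR] at h2
  exact h2.symm

/-- the elements of order 29. -/
theorem order29 : ∀ w ∈ W29, orderOf (evR w) = 29 := by
  intro w hw
  obtain ⟨h1, h2⟩ := w29_all w hw
  rw [← pi_evR w h1, orderOf_injective (stageR.pi 1) piR_injective] at h2
  exact h2

theorem mem_of_pair (K : Subgroup GR) (l : List ℕ) (c : ℕ) (h1 : evR l ∈ K)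
    (h2 : evR (l ++ [c]) ∈ K) : evR [c] ∈ K := by
  have e : evR (l ++ [c]) = evR l * evR [c] := ev_append _ _
  rw [e] at h2
  have := K.mul_mem (K.inv_mem h1) h2
  rwa [inv_mul_cancel_left] at this

theorem simple_GR : IsSimpleGroup GR := by
  have : Fact (Nat.Prime 29) := ⟨by norm_num⟩
  have hy : orderOf (evR [8]) = 29 := order29 [8] (by decide)
  refine { exists_pair_ne := ⟨evR [8], 1, ?_⟩, eq_bot_or_eq_top_of_normal := ?_ }
  · intro h
    rw [h, orderOf_one] at hy
    omega
  intro K hK
  by_cases hK1 : K = ⊥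
  · exact Or.inl hK1
  · right
    have hdvd := dvd_card_normal actsOnR piR_injective primRu_ok K hK1
    have hp2 : ¬ 29 ^ 2 ∣ Nat.card GR := by
      rw [card_GR]
      decide
    have h29 : 29 ∣ Nat.card K := dvd_trans (by decide) hdvd
    have key : ∀ w ∈ W29, evR w ∈ K := fun w hw =>
      mem_of_prime_dvd_card hp2 K h29 (order29 w hw)
    rw [eq_top_iff, ← closure_cgen 5 mm relsR relsR 1, Subgroup.closure_le]
    rintro y ⟨i, hi, rfl⟩
    interval_cases i
    · exact mem_of_pair K [2, 0, 8, 1, 3] 0 (key _ (by decide)) (key _ (by decide))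
    · exact mem_of_pair K [1, 8, 0] 2 (key _ (by decide)) (key _ (by decide))
    · exact mem_of_pair K [6, 8, 7] 4 (key _ (by decide)) (key _ (by decide))
    · exact mem_of_pair K [9] 6 (key _ (by decide)) (key _ (by decide))
    · exact key [8] (by decide)

theorem simple_of_bij' {G H : Type*} [Group G] [Group H] (f : G →* H) (hf : Function.Bijective f)
    (h : IsSimpleGroup G) : IsSimpleGroup H := (MulEquiv.ofBijective f hf).symm.isSimpleGroup

theorem simple_HRu : IsSimpleGroup HRu :=
  simple_of_bij' (stageR.pi 1).rangeRestrict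
    ⟨fun _ _ hxy => piR_injective (congrArg Subtype.val hxy),
      (stageR.pi 1).rangeRestrict_surjective⟩ simple_GR

theorem trans_HRu : ∀ v : Fin 4060, ∃ σ ∈ HRu, σ (0 : Fin 4060) = v := by
  intro v
  obtain ⟨h0, htr⟩ := normal_transitive actsOnR piR_injective primRu_ok ⊤
    (by
      intro h
      have h1 : evR [8] ∈ (⊤ : Subgroup GR) := Subgroup.mem_top _
      rw [h, Subgroup.mem_bot] at h1
      have hy : orderOf (evR [8]) = 29 := order29 [8] (by decide)
      rw [h1, orderOf_one] at hy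
      omega)
  obtain ⟨x, -, hx⟩ := htr v
  exact ⟨stageR.pi 1 x, ⟨x, rfl⟩, hx⟩

/-! ### the Tits subgroup -/

/-- the presented Tits group of Helper5. -/
abbrev FT : Type := CovG 3 mm TitX.CC TitX.CC 30

theorem simple_of_bij {G H : Type*} [Group G] [Group H] (f : G →* H) (hf : Function.Bijective f)
    (h : IsSimpleGroup H) : IsSimpleGroup G := (MulEquiv.ofBijective f hf).isSimpleGroup

theorem piF_bij : Function.Bijective TitX.piF := by
  have hfin : Finite (CovG 3 TitX.mm TitX.CC TitX.CC 30) := TitX.card_le_F.1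
  exact TitX.piF_surj.bijective_of_nat_card_le (le_of_eq TitX.card_F)

theorem simple_FT' : IsSimpleGroup (CovG 3 TitX.mm TitX.CC TitX.CC 30) ∧
    Nat.card (CovG 3 TitX.mm TitX.CC TitX.CC 30) = 17971200 :=
  ⟨simple_of_bij TitX.piF piF_bij TitX.simple_P, by rw [TitX.card_F, TitX.card_P]⟩

theorem simple_FT : IsSimpleGroup FT ∧ Nat.card FT = 17971200 := by
  show IsSimpleGroup (LPG (2 * 3) (coverRels 3 mm TitX.CC TitX.CC 30)) ∧
    Nat.card (LPG (2 * 3) (coverRels 3 mm TitX.CC TitX.CC 30)) = 17971200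
  rw [rels_mm 30]
  exact simple_FT'

/-- the subgroup generated by `a, b, c`. -/
def RT : Subgroup PP := (stageT.pi 30).range

theorem g0_ne : g 0 ≠ 1 := by
  intro h
  have h1 : (g 0 ⟨1, by decide⟩).val = T dD 0 1 := rfl
  rw [h] at h1
  have h2 := a_moves
  have h3 : T dD 0 1 = 1 := h1.symm
  rw [h3] at h2
  exact absurd h2 (by decide)

theorem simple_RT : IsSimpleGroup RT ∧ Nat.card RT = 17971200 := by
  apply simple_card_range' 17971200 simple_FT (stageT.pi 30) (cgen 3 mm TitX.CC TitX.CC 30 0)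
  unfold cgen
  rw [stageT.pi_ev 30 [2 * 0] (by decide)]
  simp only [List.map_cons, List.map_nil, List.prod_cons, List.prod_nil, mul_one, lval_even]
  exact g0_ne

theorem evalT_fix0 : ∀ l : List ℕ, (∀ c ∈ l, c < 6) → evalT dD l 0 = 0
  | [], _ => rfl
  | c :: l, h => by
    rw [evalT_cons, evalT_fix0 l (fun c hc => h c (List.mem_cons_of_mem _ hc))]
    have hc : c < 8 := by
      have := h c List.mem_cons_self
      omega
    exact Nat.eq_of_beq_eq_true (allB_true fix0 hc)

theorem RT_word (σ : PP) (hσ : σ ∈ RT) : ∃ l : List ℕ, (∀ c ∈ l, c < 6) ∧ σ = permW dD hD l := by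
  obtain ⟨z, rfl⟩ := hσ
  obtain ⟨l, hl, rfl⟩ := exists_word 3 mm TitX.CC TitX.CC 30 z
  refine ⟨l, fun c hc => by have := hl c hc; omega, ?_⟩
  rw [lprod_gC 3 mm TitX.CC TitX.CC 30 l hl, stageT.pi_ev 30 l hl,
    word_perm l (fun c hc => by have := hl c hc; omega)]

theorem RT_le : RT ≤ HRu := by
  intro σ hσ
  obtain ⟨l, hl, rfl⟩ := RT_word σ hσ
  have hl' : ∀ c ∈ l, c < 10 := fun c hc => by have := hl c hc; omega
  exact ⟨evR l, pi_evR l hl'⟩

theorem RT_fix' : ∀ σ ∈ RT, σ (⟨0, by decide⟩ : Fin dD.n) = ⟨0, by decide⟩ := by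
  intro σ hσ
  obtain ⟨l, hl, rfl⟩ := RT_word σ hσ
  apply Fin.ext
  rw [permW_apply]
  exact evalT_fix0 l hl

theorem RT_fix : ∀ σ ∈ RT, σ (0 : Fin 4060) = (0 : Fin 4060) := RT_fix'

/-- **The Rudvalis group on 4060 points.** -/
theorem main : ∃ H : Subgroup (Equiv.Perm (Fin 4060)), Cfsg.IsRu H ∧
    MulAction.IsPretransitive H (Fin 4060) ∧
    Nat.card (MulAction.stabilizer H (0 : Fin 4060)) = 35942400 ∧
    ∃ T : Subgroup (MulAction.stabilizer H (0 : Fin 4060)), Cfsg.IsTits T :=
  ⟨HRu, assemble HRu RT simple_HRu card_HRu trans_HRu simple_RT RT_le RT_fix⟩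

end Cfsg.Agent.Helper2.RuM

end
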